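import Cfsg.Agent.Lib.Classical.Phan.Level

/-!
# A system over the coordinate blocks is glued faithfully
-/

set_option autoImplicit false
set_option linter.unusedSectionVars false

namespace CfsgLib.Classical.Phan

open Matrix Cfsg
open CfsgLib.Classical.Herm
open CfsgLib.ClassicalAut (Unitary.Conj Unitary.space Unitary.herm_apply)

variable {F : Type*} [Field F] [Finite F] {q : ℕ} (K : Unitary.Conj F q) {n : ℕ}

local notation "H" => hermForm n F q

variable {G : Type*} [Group G] (S : Sys (F := F) (q := q) G n) {k : ℕ}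

namespace Sys

/-- The section extended to the whole sphere. -/
noncomputable def Ch (k : ℕ) (v : Fin n → F) : G ⧸ S.L (k + 1) :=
  @dite _ (∃ x ∈ S.U k, S.Val K k (app (S.π x) v)) (Classical.propDecidable _)
    (fun h => h.choose⁻¹ • S.C k (app (S.π h.choose) v)) (fun _ => ((1 : G) : G ⧸ S.L (k + 1)))

variable (hk : k + 3 < n) (hP : Set.InjOn S.π (↑(S.L (k + 1)) : Set G))

include K hk in
theorem exists_val {v : Fin n → F} (hv : S.Sph k v) :
    ∃ x ∈ S.U k, S.Val K k (app (S.π x) v) := by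
  obtain ⟨α, β, h, hne⟩ := exists_el_valid K S.big (cd v k) (cd v (k + 1))
  obtain ⟨x, hx, hxe⟩ := S.lift_el K (show k + 1 < n by omega) h
  exact ⟨x, hx, S.sph_app K (S.U_le_L le_rfl (by omega) hx) hv, by rwa [(hxe.2.2 v).1]⟩

include K hk hP in
theorem Ch_eq {v : Fin n → F} {x : G} (hx : x ∈ S.U k) (hxv : S.Val K k (app (S.π x) v)) :
    S.Ch K k v = x⁻¹ • S.C k (app (S.π x) v) := by
  have hex : ∃ x ∈ S.U k, S.Val K k (app (S.π x) v) := ⟨x, hx, hxv⟩
  rw [Ch, dif_pos hex]
  obtain ⟨hy, hyv⟩ := hex.choose_spec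
  generalize hex.choose = y at hy hyv ⊢
  have e1 : app (S.π (x * y⁻¹)) (app (S.π y) v) = app (S.π x) v := by
    rw [map_mul, app_mul, map_inv, app_inv]
  have he := S.edge_U K hk hP (mul_mem hx (inv_mem hy)) hyv (by rw [e1]; exact hxv)
  rw [Edge, e1, mul_smul] at he
  rw [eq_inv_smul_iff, he]

include K hk hP in
theorem Ch_val {v : Fin n → F} (hv : S.Val K k v) : S.Ch K k v = S.C k v := by
  rw [S.Ch_eq K hk hP (x := 1) (one_mem _) (by rwa [map_one, app_one]), inv_one, one_smul, map_one,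
    app_one]

/-- The elements commuting with the extended section. -/
def Eqv (k : ℕ) : Subgroup G where
  carrier := {g | g ∈ S.L k ∧ ∀ v, S.Sph k v → g • S.Ch K k v = S.Ch K k (app (S.π g) v)}
  one_mem' := ⟨one_mem _, fun v _ => by rw [one_smul, map_one, app_one]⟩
  mul_mem' := fun {a b} ha hb => ⟨mul_mem ha.1 hb.1, fun v hv => by
    rw [mul_smul, hb.2 v hv, ha.2 _ (S.sph_app K hb.1 hv), map_mul, app_mul]⟩
  inv_mem' := fun {a} ha => ⟨inv_mem ha.1, fun v hv => by
    have h := ha.2 _ (S.sph_app K (inv_mem ha.1) hv)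
    rw [← app_mul, ← map_mul, mul_inv_cancel, map_one, app_one] at h
    rw [← h, inv_smul_smul]⟩

include K hk hP in
theorem U_le_Eqv : S.U k ≤ S.Eqv K k := fun z hz => ⟨S.U_le_L le_rfl (by omega) hz, fun v hv => by
  obtain ⟨x, hx, hxv⟩ := S.exists_val K hk hv
  have e : app (S.π (x * z⁻¹)) (app (S.π z) v) = app (S.π x) v := by
    rw [map_mul, app_mul, map_inv, app_inv]
  rw [S.Ch_eq K hk hP hx hxv, S.Ch_eq K hk hP (mul_mem hx (inv_mem hz)) (by rwa [e]), e,
    _root_.mul_inv_rev, inv_inv, mul_smul]⟩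

include K hk hP in
theorem L_le_Eqv : S.L (k + 2) ≤ S.Eqv K k := fun y hy => by
  have hyP : y ∈ S.L (k + 1) := S.L_anti (Nat.le_succ _) hy
  refine ⟨S.L_anti (by omega) hy, fun v hv => ?_⟩
  obtain ⟨x, hx, hxv⟩ := S.exists_val K hk hv
  have hyx : y * x = x * y := S.comm K (by omega) hx hy
  have e : app (S.π x) (app (S.π y) v) = app (S.π y) (app (S.π x) v) := by
    rw [← app_mul, ← app_mul, ← map_mul, ← map_mul, hyx]
  have hE := S.edge_P K hk hP hyP hxv
  rw [Edge] at hE
  rw [S.Ch_eq K hk hP hx hxv, S.Ch_eq K hk hP hx (by rw [e]; exact S.val_app K hyP hxv), e, ← hE,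
    ← mul_smul, ← mul_smul]
  congr 1
  rw [eq_inv_mul_iff_mul_eq, ← mul_assoc, ← hyx, mul_inv_cancel_right]

include K hk hP in
/-- An element of the triple moving the first axis off the circle preserves the section. -/
theorem edge_triple_mem {y : G} (hy : y ∈ S.U k ⊔ S.U (k + 1))
    (hp : nm K (cd (app (S.π y) (bv k : Fin n → F)) k) ≠ 1) {u : Fin n → F} (hu : S.Val K k u)
    (hyu : S.Val K k (app (S.π y) u)) : S.Edge k y u := by
  set ye := app (S.π y) (bv k : Fin n → F) with hye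
  have hyL : y ∈ S.L k := sup_le (S.U_le_L le_rfl (by omega)) (S.U_le_L (Nat.le_succ _) (by omega)) hy
  have hB := S.pair_Blk (show k + 2 < n by omega) hy
  have hW : ye ∈ W k := Fix_app_W K (S.mem_Fix hyL) (bv_mem_W le_rfl)
  have hz : ∀ i, k + 3 ≤ i → cd ye i = 0 := fun i hi => by
    rw [hye, Blk_cd K hB _ (by omega), cd_bv, if_neg (by omega)]
  have hn := norm_range K 3 hW hz
  rw [hye, h_app, h_bv K, cd_bv, if_pos ⟨rfl, by omega⟩, ← hye, Finset.sum_range_succ,
    Finset.sum_range_succ, Finset.sum_range_one, add_zero] at hn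
  obtain ⟨c, hc⟩ := exists_nm K (bar_one_sub K (bar_nm K (cd ye k)))
  obtain ⟨α, β, h1, h2, h3⟩ := exists_el_move K (b := c) (c := 0) (b' := cd ye (k + 1))
    (c' := cd ye (k + 2)) (by rw [nm_zero, add_zero, hc]; exact sub_ne_zero.2 (Ne.symm hp))
    (by rw [nm_zero, add_zero, hc]; linear_combination -hn)
  obtain ⟨z2, hz2, hz2e⟩ := S.lift_el K (show k + 1 + 1 < n by omega) h1
  obtain ⟨x2, hx2, hx2e⟩ := S.lift_el K (show k + 1 < n by omega) (α := cd ye k) (β := c)
    (by rw [hc]; ring)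
  have he : app (S.π z2) (app (S.π x2) (bv k : Fin n → F)) = ye := by
    rw [el_app K hx2e]
    refine el_move K hz2e (w := ye) (b := cd ye (k + 1)) (b' := cd ye (k + 2)) ?_ ?_ rfl rfl ?_
    · simpa [cd_add, cd_smul, cd_bv, show k + 1 < n by omega, show k + 1 + 1 < n by omega,
        show k < n by omega, show ¬ k + 1 + 1 = k by omega] using h2
    · simpa [cd_add, cd_smul, cd_bv, show k + 1 < n by omega, show k + 1 + 1 < n by omega,
        show k < n by omega, show ¬ k + 1 + 1 = k by omega] using h3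
    · intro i hi e1 e2
      simp only [cd_add, cd_smul, cd_bv, hi, and_true, e1, if_false, mul_zero, add_zero]
      by_cases e : i = k
      · subst e; simp
      rw [if_neg e, mul_zero]
      by_cases e' : i < k
      · exact mem_W.1 hW i e'
      · exact hz i (by omega)
  set z3 := (z2 * x2)⁻¹ * y with hz3
  have hz3U : z3 ∈ S.U (k + 1) := S.three_mem K (by omega) (mul_mem (inv_mem (mul_mem
    (Subgroup.mem_sup_right hz2) (Subgroup.mem_sup_left hx2))) hy)
    (by rw [hz3, map_mul, app_mul, ← hye, ← he, ← app_mul, ← map_mul, ← app_mul, ← map_mul,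
      mul_assoc, inv_mul_cancel, map_one, app_one])
  have hz2P : z2 ∈ S.L (k + 1) := S.U_le_L le_rfl (by omega) hz2
  have hz3P : z3 ∈ S.L (k + 1) := S.U_le_L le_rfl (by omega) hz3U
  have hy3 : y = z2 * x2 * z3 := by rw [hz3, mul_inv_cancel_left]
  have hv3 := S.val_app K hz3P hu
  have hv2 : S.Val K k (app (S.π x2) (app (S.π z3) u)) := by
    have := S.val_app K (inv_mem hz2P) hyu
    rwa [hy3, map_mul, map_mul, app_mul, app_mul, map_inv, app_inv] at this
  rw [hy3, mul_assoc]
  refine Edge.trans (Edge.trans (S.edge_P K hk hP hz3P hu) (S.edge_U K hk hP hx2 hv3 hv2)) ?_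
  rw [map_mul, app_mul]
  exact S.edge_P K hk hP hz2P hv2

include K hk hP in
theorem w_mem {w : G} (hw : w ∈ S.U (k + 1)) (hwe : IsEl K (S.π w) (k + 1) 0 1) :
    w ∈ S.Eqv K k := by
  have hwP : w ∈ S.L (k + 1) := S.U_le_L le_rfl (by omega) hw
  refine ⟨S.L_anti (Nat.le_succ _) hwP, fun v hv => ?_⟩
  by_cases hval : nm K (cd v k) ≠ 1
  · rw [S.Ch_val K hk hP ⟨hv, hval⟩, S.Ch_val K hk hP (S.val_app K hwP ⟨hv, hval⟩)]
    exact S.edge_P K hk hP hwP ⟨hv, hval⟩
  rw [not_not] at hval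
  set v' := app (S.π w) v with hv'
  have hv's : S.Sph k v' := S.sph_app K (S.L_anti (Nat.le_succ _) hwP) hv
  have f0 : cd v' k = cd v k := S.app_L hwP (Nat.lt_succ_self k) K
  have f1 : cd v' (k + 1) = -cd v (k + 2) := by
    rw [hv', (hwe.2.2 v).1, zero_mul, map_one, one_mul, zero_sub]
  have key : ∃ α3 β3 α1 β1 : F, nm K α3 + nm K β3 = 1 ∧ nm K α1 + nm K β1 = 1 ∧
      nm K (α3 * cd v k - K.bar β3 * cd v (k + 1)) ≠ 1 ∧
      nm K (α1 * cd v' k - K.bar β1 * cd v' (k + 1)) ≠ 1 ∧ nm K α1 * nm K α3 ≠ 1 := by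
    by_cases hb : nm K (cd v (k + 1)) = 1
    swap
    · obtain ⟨α1, β1, g1, g2⟩ := exists_el_valid K S.big (cd v' k) (cd v' (k + 1))
      exact ⟨0, 1, α1, β1, by rw [nm_zero, nm_one, zero_add], g1,
        by rw [map_one, zero_mul, one_mul, zero_sub, nm_neg]; exact hb, g2,
        by rw [nm_zero, mul_zero]; exact zero_ne_one⟩
    by_cases hc : nm K (cd v (k + 2)) = 1
    swap
    · obtain ⟨α3, β3, g1, g2⟩ := exists_el_valid K S.big (cd v k) (cd v (k + 1))
      exact ⟨α3, β3, 0, 1, g1, by rw [nm_zero, nm_one, zero_add], g2,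
        by rw [map_one, zero_mul, one_mul, zero_sub, nm_neg, f1, nm_neg]; exact hc,
        by rw [nm_zero, zero_mul]; exact zero_ne_one⟩
    obtain ⟨t, ht, ht0, ht1, ht2⟩ := exists_fixed_t K S.big
    obtain ⟨α3, β3, g1, g1t, g2⟩ := exists_el_valid_norm K S.big hval hb ht ht0 ht1
    obtain ⟨α1, β1, g3, g3t, g4⟩ := exists_el_valid_norm K S.big (a := cd v' k)
      (b := cd v' (k + 1)) (by rw [f0]; exact hval) (by rw [f1, nm_neg]; exact hc) ht ht0 ht1
    exact ⟨α3, β3, α1, β1, g1, g3, g2, g4, by rw [g3t, g1t]; exact ht2⟩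
  obtain ⟨α3, β3, α1, β1, g3, g1, g3v, g1v, hp⟩ := key
  obtain ⟨x3, hx3, hx3e⟩ := S.lift_el K (show k + 1 < n by omega) g3
  obtain ⟨x1, hx1, hx1e⟩ := S.lift_el K (show k + 1 < n by omega) g1
  have hu : S.Val K k (app (S.π x3) v) :=
    ⟨S.sph_app K (S.U_le_L le_rfl (by omega) hx3) hv, by rwa [(hx3e.2.2 v).1]⟩
  have hu' : S.Val K k (app (S.π x1) v') :=
    ⟨S.sph_app K (S.U_le_L le_rfl (by omega) hx1) hv's, by rwa [(hx1e.2.2 v').1]⟩
  set y := x1 * w * x3⁻¹ with hy
  have hyM : y ∈ S.U k ⊔ S.U (k + 1) := mul_mem (mul_mem (Subgroup.mem_sup_left hx1)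
    (Subgroup.mem_sup_right hw)) (inv_mem (Subgroup.mem_sup_left hx3))
  have hyu : app (S.π y) (app (S.π x3) v) = app (S.π x1) v' := by
    rw [hy, map_mul, map_mul, app_mul, app_mul, map_inv, app_inv]
  have hq : cd (app (S.π y) (bv k : Fin n → F)) k = α1 * K.bar α3 := by
    set r : Fin n → F := K.bar α3 • bv k + (-β3) • bv (k + 1) with hr
    have hinv : app (S.π x3⁻¹) (bv k : Fin n → F) = r := by
      have hxr : app (S.π x3) r = bv k := by
        have g3' : α3 * K.bar α3 + β3 * K.bar β3 = 1 := g3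
        refine el_move K hx3e (b := 1) (b' := 0) ?_ ?_
          (by rw [cd_bv, if_pos ⟨rfl, by omega⟩]) (by rw [cd_bv, if_neg (by omega)])
          fun i hi e1 e2 => ?_
        · simp only [hr, cd_add, cd_smul, cd_bv, show k < n by omega, show k + 1 < n by omega,
            and_true, show ¬ k = k + 1 by omega, show ¬ k + 1 = k by omega, if_true, if_false]
          linear_combination g3'
        · simp only [hr, cd_add, cd_smul, cd_bv, show k < n by omega, show k + 1 < n by omega,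
            and_true, show ¬ k = k + 1 by omega, show ¬ k + 1 = k by omega, if_true, if_false]
          ring
        · simp only [hr, cd_add, cd_smul, cd_bv, e1, e2, false_and, if_false, mul_zero, add_zero]
      rw [map_inv, ← hxr, app_inv]
    rw [hy, map_mul, map_mul, app_mul, app_mul, hinv, (hx1e.2.2 _).1, (hwe.2.2 _).1,
      S.app_L hwP (Nat.lt_succ_self k) K]
    simp only [hr, cd_add, cd_smul, cd_bv, show k < n by omega, show k + 1 + 1 < n by omega,
      and_true, show ¬ k = k + 1 by omega, show ¬ k + 1 + 1 = k by omega,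
      show ¬ k + 1 + 1 = k + 1 by omega, if_true, if_false]
    ring
  have he := S.edge_triple_mem K hk hP hyM (by rw [hq, nm_mul, nm_bar]; exact hp) hu
    (by rw [hyu]; exact hu')
  rw [Edge, hyu] at he
  rw [S.Ch_eq K hk hP hx3 hu, S.Ch_eq K hk hP hx1 hu', ← he, ← mul_smul, ← mul_smul]
  congr 1
  rw [hy]; group

include K hk hP in
theorem L_eq_Eqv : S.L k ≤ S.Eqv K k := by
  obtain ⟨w1, hw1, hw1e⟩ := S.lift_el K (show k + 1 + 1 < n by omega) (α := (0 : F)) (β := 1)
    (by rw [nm_zero, nm_one, zero_add])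
  obtain ⟨w2, hw2, hw2e⟩ := S.lift_el K (show k + 2 + 1 < n by omega) (α := (0 : F)) (β := 1)
    (by rw [nm_zero, nm_one, zero_add])
  refine iSup₂_le fun j hj => ?_
  by_cases hjk : j = k
  · subst hjk; exact S.U_le_Eqv K hk hP
  by_cases hjk' : j = k + 1
  swap
  · exact (S.U_le_L (show k + 2 ≤ j by omega) hj.2).trans (S.L_le_Eqv K hk hP)
  subst hjk'
  intro z hz
  set T := w2 * w1 with hT
  have hTM : T ∈ S.U (k + 1) ⊔ S.U (k + 1 + 1) :=
    mul_mem (Subgroup.mem_sup_right hw2) (Subgroup.mem_sup_left hw1)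
  have hTE : T ∈ S.Eqv K k :=
    mul_mem (S.L_le_Eqv K hk hP (S.U_le_L le_rfl (by omega) hw2)) (S.w_mem K hk hP hw1 hw1e)
  have hTb : app (S.π T) (bv (k + 1) : Fin n → F) = bv (k + 3) := by
    rw [hT, map_mul, app_mul, el_app K hw1e, zero_smul, zero_add, one_smul, el_app K hw2e,
      zero_smul, zero_add, one_smul]
  have hmem : T⁻¹ * z * T ∈ S.U (k + 1 + 1) := by
    refine S.three_mem K (by omega) (mul_mem (mul_mem (inv_mem hTM) (Subgroup.mem_sup_left hz)) hTM) ?_
    rw [map_mul, map_mul, app_mul, app_mul, hTb,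
      S.mem_Blk (show k + 1 + 1 < n by omega) hz (k + 3) (by omega), ← hTb, map_inv, app_inv]
  have := mul_mem (mul_mem hTE (S.L_le_Eqv K hk hP (S.U_le_L le_rfl (by omega) hmem))) (inv_mem hTE)
  rwa [show T * (T⁻¹ * z * T) * T⁻¹ = z by group] at this

include K hk hP in
theorem step : Set.InjOn S.π (↑(S.L k) : Set G) := by
  intro a ha b hb hab
  have hg : a⁻¹ * b ∈ S.L k := mul_mem (inv_mem ha) hb
  have hg1 : S.π (a⁻¹ * b) = 1 := by rw [map_mul, map_inv, hab, inv_mul_cancel]
  obtain ⟨x, hx, hxe⟩ := S.lift_el K (show k + 1 < n by omega) (α := (0 : F)) (β := 1)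
    (by rw [nm_zero, nm_one, zero_add])
  have hsph : S.Sph k (bv k : Fin n → F) :=
    ⟨bv_mem_W le_rfl, by rw [h_bv K, cd_bv, if_pos ⟨rfl, by omega⟩]⟩
  have hxv : S.Val K k (app (S.π x) (bv k : Fin n → F)) :=
    ⟨S.sph_app K (S.U_le_L le_rfl (by omega) hx) hsph,
      by simp [(hxe.2.2 (bv k : Fin n → F)).1, cd_bv, nm_zero]⟩
  have hC := S.C_eq K hk hP hxv.2 (one_mem (S.L (k + 1))) hx (by rw [one_mul])
  have hE := (S.L_eq_Eqv K hk hP hg).2 _ hsph
  rw [hg1, app_one, S.Ch_eq K hk hP hx hxv, hC, MulAction.Quotient.smul_coe, smul_eq_mul, one_mul,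
    inv_mul_cancel, MulAction.Quotient.smul_coe, smul_eq_mul, mul_one, QuotientGroup.eq, mul_one,
    inv_mem_iff] at hE
  have h1 : a⁻¹ * b = 1 := hP (SetLike.mem_coe.2 hE) (SetLike.mem_coe.2 (one_mem _))
    (by rw [hg1, map_one])
  exact inv_mul_eq_one.1 h1

end Sys

include K in
/-- A system is glued faithfully. -/
theorem Sys.injOn (k : ℕ) : Set.InjOn S.π (↑(S.L k) : Set G) := by
  induction hm : n - k generalizing k with
  | zero =>
    have hbot : S.L k = ⊥ := eq_bot_iff.2 (iSup₂_le fun j hj => absurd hj (by omega))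
    intro a ha b hb _
    rw [hbot] at ha hb
    simp only [Subgroup.coe_bot, Set.mem_singleton_iff] at ha hb
    rw [ha, hb]
  | succ m ih =>
    by_cases hk : k + 3 < n
    · exact S.step K hk (ih (k + 1) (by omega))
    by_cases hk1 : k + 2 < n
    · exact (S.injU k (k + 1) (by omega) (by omega)).mono (SetLike.coe_subset_coe.2
        (iSup₂_le fun j hj => by
          rcases (show j = k ∨ j = k + 1 by omega) with rfl | rfl
          exacts [le_sup_left, le_sup_right]))
    by_cases hk0 : k + 1 < n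
    · exact (S.injU k k hk0 hk0).mono (SetLike.coe_subset_coe.2
        (iSup₂_le fun j hj => (show j = k by omega) ▸ le_sup_left))
    · have hbot : S.L k = ⊥ := eq_bot_iff.2 (iSup₂_le fun j hj => absurd hj (by omega))
      intro a ha b hb _
      rw [hbot] at ha hb
      simp only [Subgroup.coe_bot, Set.mem_singleton_iff] at ha hb
      rw [ha, hb]

include K in
/-- A system gives homomorphisms out of the special unitary group. -/
theorem Sys.exists_hom {M : Type*} [Group M] (p : G →* M) :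
    ∃ f : SU n F q →* M, f.range = (S.L 0).map p := by
  let r : S.L 0 →* SU n F q := S.π.comp (S.L 0).subtype
  have hinj : Function.Injective r := fun a b h => Subtype.ext (S.injOn K 0 a.2 b.2 h)
  have hsur : Function.Surjective r := fun g => by
    obtain ⟨x, hx, hxe⟩ := S.surj K 0 g (by rw [Fix_zero]; exact Subgroup.mem_top g)
    exact ⟨⟨x, hx⟩, hxe⟩
  refine ⟨(p.comp (S.L 0).subtype).comp (MulEquiv.ofBijective r ⟨hinj, hsur⟩).symm.toMonoidHom, ?_⟩
  rw [MonoidHom.range_comp, MonoidHom.range_eq_top.2 (MulEquiv.surjective _),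
    ← MonoidHom.range_eq_map, MonoidHom.range_comp, Subgroup.range_subtype]

end CfsgLib.Classical.Phan
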