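import Cfsg.Agent.Lib.Classical.Phan.Embed
import Cfsg.Agent.Lib.Classical.Phan.Core
import Cfsg.Prelude.Def_PhanSystems

/-!
# Amalgams of standard pairs
-/

set_option autoImplicit false
set_option linter.unusedSectionVars false

namespace CfsgLib.Classical.Phan

open Matrix Cfsg
open CfsgLib.Classical.Herm
open CfsgLib.ClassicalAut (Unitary.Conj Unitary.space Unitary.herm_apply)

variable {F : Type*} [Field F] [Finite F] {q : ℕ} (K : Unitary.Conj F q) {G : Type*} [Group G]

theorem h01 : 0 + 2 ≤ 3 := by norm_num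
theorem h12 : 1 + 2 ≤ 3 := by norm_num

/-- The first block of the three-dimensional group. -/
abbrev bA : SU 2 F q →* SU 3 F q := emb K h01
/-- The second block of the three-dimensional group. -/
abbrev bB : SU 2 F q →* SU 3 F q := emb K h12

/-- `ψ` carries the two blocks isomorphically onto `A` and `B` inside `V`. -/
structure Pair (ψ : SU 3 F q →* G) (A B V : Subgroup G) : Prop where
  injA : Function.Injective (ψ.comp (bA K))
  injB : Function.Injective (ψ.comp (bB K))
  rangeA : (ψ.comp (bA K)).range = A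
  rangeB : (ψ.comp (bB K)).range = B
  range : ψ.range = V

include K in
theorem suBlock_eq {j : ℕ} (h : j + 2 ≤ 3) (s : Set (Fin 3))
    (hs : ∀ k : Fin 3, k ∈ s ↔ (k : ℕ) = j ∨ (k : ℕ) = j + 1) :
    suBlock 3 F q s = (emb K h : SU 2 F q →* SU 3 F q).range := by
  rw [range_emb_two K h]
  refine le_antisymm ((Subgroup.closure_le _).2 fun A hA i hi => ?_) fun A hA => Subgroup.subset_closure ?_
  · by_cases hi3 : i < 3
    swap
    · rw [bv, dif_neg hi3, app_zero']
    obtain ⟨h1, h2⟩ := hA ⟨i, hi3⟩ (by rw [hs]; simp only; omega)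
    rw [bv, dif_pos hi3, app, mulVec_single_one]
    funext l
    by_cases hl : l = ⟨i, hi3⟩
    · subst hl; simpa using h1
    · rw [Pi.single_eq_of_ne hl]; exact (h2 l hl).2
  · intro k hk
    rw [hs] at hk
    have hfix : app A (bv (k : ℕ) : Fin 3 → F) = bv (k : ℕ) := hA k (by omega)
    refine ⟨?_, fun l hl => ⟨?_, ?_⟩⟩
    · show mat A k k = 1
      rw [mat_apply, hfix, cd_bv, if_pos ⟨rfl, k.2⟩]
    · show mat A k l = 0
      rw [mat_apply, cd_app_of_fix K hfix, cd_bv, if_neg (fun e => hl (Fin.ext e.1).symm)]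
    · show mat A l k = 0
      rw [mat_apply, hfix, cd_bv, if_neg (fun e => hl (Fin.ext e.1))]

include K in
theorem central_block {j : ℕ} (h : j + 2 ≤ 3) {z : SU 3 F q}
    (hz : z ∈ Subgroup.center (SU 3 F q)) (hB : z ∈ Blk j (j + 2)) : z = 1 := by
  rcases (show j = 0 ∨ j = 1 by omega) with rfl | rfl
  · obtain ⟨w, hw⟩ := exists_el K (n := 3) (j := 1) (by norm_num) (α := (0 : F)) (β := 1)
      (by rw [nm_zero, nm_one, zero_add])
    have e1 : app w (bv 1 : Fin 3 → F) = bv 2 := by rw [hw.2.1]; simp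
    have e2 : app z (bv 1 : Fin 3 → F) = bv 1 := by
      have hc : app z (app w (bv 1 : Fin 3 → F)) = app w (app z (bv 1)) := by
        rw [← app_mul, ← app_mul, Subgroup.mem_center_iff.1 hz w]
      rw [e1, hB 2 (by omega)] at hc
      have h' := congrArg (app w⁻¹) hc
      rw [app_inv] at h'
      rw [← h', ← e1, app_inv]
    refine eq_one_of_almost K (l := 0) fun i hi hne => ?_
    rcases (show i = 1 ∨ i = 2 by omega) with rfl | rfl
    exacts [e2, hB 2 (by omega)]
  · obtain ⟨w, hw⟩ := exists_el K (n := 3) (j := 0) (by norm_num) (α := (0 : F)) (β := 1)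
      (by rw [nm_zero, nm_one, zero_add])
    have e1 : app w (bv 0 : Fin 3 → F) = bv 1 := by rw [hw.2.1]; simp
    have e2 : app z (bv 1 : Fin 3 → F) = bv 1 := by
      rw [← e1, ← app_mul, ← Subgroup.mem_center_iff.1 hz w, app_mul, hB 0 (by omega)]
    refine eq_one_of_almost K (l := 2) fun i hi hne => ?_
    rcases (show i = 0 ∨ i = 1 by omega) with rfl | rfl
    exacts [hB 0 (by omega), e2]

include K in
theorem inj_block {j : ℕ} (h : j + 2 ≤ 3) (ψ : SU 3 F q →* G)
    (hψ : ψ.ker ≤ Subgroup.center (SU 3 F q)) :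
    Function.Injective (ψ.comp (emb K h : SU 2 F q →* SU 3 F q)) := by
  rw [← MonoidHom.ker_eq_bot_iff, eq_bot_iff]
  intro A hA
  exact emb_injective K h ((central_block K h (hψ hA) (emb_mem_Blk K h A)).trans (map_one _).symm)

include K in
theorem exists_pair {V A B : Subgroup G} (h : IsStandardUnitaryPair V A B F q) :
    ∃ ψ : SU 3 F q →* G, Pair K ψ A B V := by
  have s0 := suBlock_eq (q := q) K h01 ({0, 1} : Set (Fin 3)) (fun k => by fin_cases k <;> simp)
  have s1 := suBlock_eq (q := q) K h12 ({1, 2} : Set (Fin 3)) (fun k => by fin_cases k <;> simp)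
  rcases h with ⟨ψ, hA, hB⟩ | ⟨ψ, hA, hB⟩
  · set f := V.subtype.comp ψ.toMonoidHom
    have hk : f.ker ≤ Subgroup.center (SU 3 F q) := by
      rw [(MonoidHom.ker_eq_bot_iff f).2 (Subtype.val_injective.comp ψ.injective)]; exact bot_le
    refine ⟨f, ⟨inj_block K h01 f hk, inj_block K h12 f hk, ?_, ?_, ?_⟩⟩
    · rw [MonoidHom.range_comp, ← s0, hA]
    · rw [MonoidHom.range_comp, ← s1, hB]
    · rw [MonoidHom.range_comp, MonoidHom.range_eq_top.2 ψ.surjective, ← MonoidHom.range_eq_map,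
        Subgroup.range_subtype]
  · set f := V.subtype.comp (ψ.toMonoidHom.comp (QuotientGroup.mk' (Subgroup.center (SU 3 F q))))
    have hk : f.ker ≤ Subgroup.center (SU 3 F q) := fun z hz => by
      have h1 : (ψ (QuotientGroup.mk z) : G) = 1 := hz
      rw [OneMemClass.coe_eq_one, EmbeddingLike.map_eq_one_iff, QuotientGroup.eq_one_iff] at h1
      exact h1
    refine ⟨f, ⟨inj_block K h01 f hk, inj_block K h12 f hk, ?_, ?_, ?_⟩⟩
    · rw [MonoidHom.range_comp, ← s0, hA]
    · rw [MonoidHom.range_comp, ← s1, hB]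
    · rw [MonoidHom.range_comp, MonoidHom.range_eq_top.2
        (ψ.surjective.comp (QuotientGroup.mk'_surjective _)), ← MonoidHom.range_eq_map,
        Subgroup.range_subtype]

include K in
theorem two_ext {A B : SU 2 F q} (h0 : mat A 0 0 = mat B 0 0) (h1 : mat A 1 0 = mat B 1 0) :
    A = B := by
  refine mat_ext ?_
  rw [(mat_two K A).1, (mat_two K B).1, h0, h1]

include K in
theorem two_mul (A B : SU 2 F q) :
    mat (A * B) 0 0 = mat A 0 0 * mat B 0 0 - K.bar (mat A 1 0) * mat B 1 0 ∧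
      mat (A * B) 1 0 = mat A 1 0 * mat B 0 0 + K.bar (mat A 0 0) * mat B 1 0 := by
  rw [mat_mul, (mat_two K A).1, Matrix.mul_apply, Matrix.mul_apply, Fin.sum_univ_two, Fin.sum_univ_two]
  constructor <;> simp <;> ring

include K in
/-- The torus of one block acts on the other by scaling. -/
theorem torus_conj {l : F} (hl : nm K l = 1) {d : SU 2 F q} (hd0 : mat d 0 0 = l)
    (hd1 : mat d 1 0 = 0) (X : SU 2 F q) : ∃ Y : SU 2 F q,
      mat Y 0 0 = mat X 0 0 ∧ mat Y 1 0 = l * mat X 1 0 ∧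
        bA K d * bB K X = bB K Y * bA K d ∧ bB K d * bA K X = bA K Y * bB K d := by
  obtain ⟨Y, hY0, hY1⟩ := exists_two K (α := mat X 0 0) (β := l * mat X 1 0)
    (by rw [nm_mul, hl, one_mul, (mat_two K X).2])
  have A_d := emb_two K h01 d
  have B_d := emb_two K h12 d
  have B_X := emb_two K h12 X
  have A_X := emb_two K h01 X
  have B_Y := emb_two K h12 Y
  have A_Y := emb_two K h01 Y
  rw [hd0, hd1] at A_d B_d
  rw [hY0, hY1] at B_Y A_Y
  have hl' : l * K.bar l = 1 := hl
  have hbl : K.bar (l * mat X 1 0) = K.bar l * K.bar (mat X 1 0) := map_mul _ _ _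
  refine ⟨Y, hY0, hY1, ext_app fun v => ext_cd fun i hi => ?_, ext_app fun v => ext_cd fun i hi => ?_⟩
  · rw [app_mul, app_mul]
    rcases (show i = 0 ∨ i = 1 ∨ i = 2 by omega) with rfl | rfl | rfl
    · rw [(A_d.2.2 _).1, map_zero, zero_mul, sub_zero, B_X.cd_ne K v (by omega) (by omega),
        B_Y.cd_ne K _ (by omega) (by omega), (A_d.2.2 _).1, map_zero, zero_mul, sub_zero]
    · rw [(A_d.2.2 _).2, zero_mul, zero_add, (B_X.2.2 v).1, (B_Y.2.2 _).1, (A_d.2.2 _).2, zero_mul,
        zero_add, A_d.cd_ne K v (show 1 + 1 ≠ 0 by omega) (by omega), hbl]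
      ring
    · rw [A_d.cd_ne K _ (by omega) (by omega), (B_X.2.2 v).2, (B_Y.2.2 _).2, (A_d.2.2 _).2,
        zero_mul, zero_add, A_d.cd_ne K v (show 1 + 1 ≠ 0 by omega) (by omega)]
      linear_combination -(mat X 1 0 * cd v 1) * hl'
  · rw [app_mul, app_mul]
    rcases (show i = 0 ∨ i = 1 ∨ i = 2 by omega) with rfl | rfl | rfl
    · rw [B_d.cd_ne K _ (by omega) (by omega), (A_X.2.2 v).1, (A_Y.2.2 _).1,
        B_d.cd_ne K v (show 0 ≠ 1 by omega) (by omega), (B_d.2.2 _).1, map_zero, zero_mul, sub_zero, hbl]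
      linear_combination (K.bar (mat X 1 0) * cd v (0 + 1)) * hl'
    · rw [(B_d.2.2 _).1, map_zero, zero_mul, sub_zero, (A_X.2.2 v).2, (A_Y.2.2 _).2,
        B_d.cd_ne K v (show 0 ≠ 1 by omega) (by omega), (B_d.2.2 _).1, map_zero, zero_mul, sub_zero]
      ring
    · rw [(B_d.2.2 _).2, zero_mul, zero_add, A_X.cd_ne K v (by omega) (by omega),
        A_Y.cd_ne K _ (by omega) (by omega), (B_d.2.2 _).2, zero_mul, zero_add]

include K in
/-- Adjust a standard pair to agree with the previous one. -/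
theorem glue (hq : 4 ≤ q) {A B C V W : Subgroup G} {ψ χ : SU 3 F q →* G} (hψ : Pair K ψ A B V)
    (hχ : Pair K χ B C W) (hAC : ∀ x ∈ A, ∀ y ∈ C, x * y = y * x) :
    ∃ χ' : SU 3 F q →* G, Pair K χ' B C W ∧ χ'.comp (bA K) = ψ.comp (bB K) := by
  classical
  let α : MulAut (SU 2 F q) := ((MonoidHom.ofInjective hψ.injB).trans
    (MulEquiv.subgroupCongr (hψ.rangeB.trans hχ.rangeA.symm))).trans (MonoidHom.ofInjective hχ.injA).symm
  have hα : ∀ X, χ (bA K (α X)) = ψ (bB K X) := fun X => by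
    have := congrArg Subtype.val ((MonoidHom.ofInjective hχ.injA).apply_symm_apply
      (MulEquiv.subgroupCongr (hψ.rangeB.trans hχ.rangeA.symm) (MonoidHom.ofInjective hψ.injB X)))
    exact this
  obtain ⟨l, hl, hl'⟩ := exists_norm_one_ne_bar K hq
  have hl1 : l ≠ 1 := fun e => hl' (by rw [e, map_one])
  obtain ⟨d, hd0, hd1⟩ := exists_two K (α := l) (β := (0 : F)) (by rw [hl, nm_zero, add_zero])
  set t := ψ (bA K d) with ht
  set t' := χ (bB K d) with ht'
  have htt : t * t' = t' * t :=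
    hAC _ (hψ.rangeA ▸ ⟨d, rfl⟩) _ (hχ.rangeB ▸ ⟨d, rfl⟩)
  -- diagonal elements commute with the torus
  have hdiag : ∀ X, mat X 1 0 = 0 ↔ t' * χ (bA K X) = χ (bA K X) * t' := by
    intro X
    obtain ⟨Y, hY0, hY1, -, hY⟩ := torus_conj K hl hd0 hd1 X
    have e : t' * χ (bA K X) = χ (bA K Y) * t' := by rw [ht', ← map_mul, hY, map_mul]
    rw [e]
    constructor
    · intro hX
      rw [two_ext K (A := Y) (B := X) hY0 (by rw [hY1, hX, mul_zero])]
    · intro h
      have hYX : Y = X := hχ.injA (mul_right_cancel h)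
      rw [hYX] at hY1
      by_contra hne
      exact hl1 (mul_right_cancel₀ hne (by rw [one_mul]; exact hY1.symm))
  have hβ : ∀ X, mat X 1 0 = 0 → mat (α.symm X) 1 0 = 0 := by
    intro X hX
    set Z := α.symm X with hZ
    obtain ⟨Y, hY0, hY1, hY, -⟩ := torus_conj K hl hd0 hd1 Z
    have e : t * ψ (bB K Z) = ψ (bB K Y) * t := by rw [ht, ← map_mul, hY, map_mul]
    have hαZ : α Z = X := by rw [hZ, MulEquiv.apply_symm_apply]
    have hcZ : t' * ψ (bB K Z) = ψ (bB K Z) * t' := by rw [← hα, hαZ]; exact (hdiag X).1 hX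
    have hcY : t' * ψ (bB K Y) = ψ (bB K Y) * t' := by
      have e' : ψ (bB K Y) = t * ψ (bB K Z) * t⁻¹ := by rw [e, mul_inv_cancel_right]
      have hc1 : Commute t' t := htt.symm
      rw [e']
      exact ((hc1.mul_right hcZ).mul_right hc1.inv_right).eq
    have hαY : mat (α Y) 1 0 = 0 := (hdiag _).2 (by rw [hα]; exact hcY)
    have hcomm : Z * Y = Y * Z := by
      apply α.injective
      rw [map_mul, map_mul, hαZ]
      refine two_ext K ?_ ?_
      · rw [(two_mul K _ _).1, (two_mul K _ _).1, hX, hαY]; simp [mul_comm]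
      · rw [(two_mul K _ _).2, (two_mul K _ _).2, hX, hαY]; simp
    have h0 := (two_mul K Z Y).1
    rw [hcomm, (two_mul K Y Z).1, hY0, hY1, map_mul] at h0
    have h1 : (mat Z 1 0 * K.bar (mat Z 1 0)) * (l - K.bar l) = 0 := by linear_combination h0
    exact (nm_eq_zero K).1 ((mul_eq_zero.1 h1).resolve_right (sub_ne_zero.2 (Ne.symm hl')))
  obtain ⟨τ, μ, hμ, hform⟩ := aut_SU_two_diag K hq α.symm hβ
  have hαform : ∀ X, mat (α X) 0 0 = τ.symm (mat X 0 0) ∧
      mat (α X) 1 0 = τ.symm (μ⁻¹) * τ.symm (mat X 1 0) := by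
    intro X
    have := hform (α X)
    rw [MulEquiv.symm_apply_apply] at this
    refine ⟨by rw [this.1, τ.symm_apply_apply], ?_⟩
    have hμ0 : μ ≠ 0 := fun e => by rw [e, nm_zero] at hμ; exact zero_ne_one hμ
    rw [this.2, ← map_mul, inv_mul_cancel_left₀ hμ0, τ.symm_apply_apply]
  have hμ' : nm K (τ.symm μ⁻¹) = 1 := by
    rw [nm, tau_bar K, ← map_mul, map_inv₀, ← mul_inv, show μ * K.bar μ = 1 from hμ, inv_one, map_one]
  have hμ0' : τ.symm μ⁻¹ ≠ 0 := fun e => by rw [e, nm_zero] at hμ'; exact zero_ne_one hμ'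
  set D : Fin 3 → Fˣ := ![1, Units.mk0 _ hμ0', Units.mk0 _ hμ0'] with hDdef
  have hD : ∀ i, nm K (D i : F) = 1 := fun i => by
    fin_cases i
    exacts [nm_one K, hμ', hμ']
  set T := tw K D hD τ.symm
  have hTA : ∀ X : SU 2 F q, T (bA K X) = bA K (α X) := by
    intro X
    obtain ⟨Z, hZ, z0, z1⟩ := tw_emb K (n := 3) (l := 0) (by norm_num) D hD τ.symm X
    have hZα : Z = α X := by
      refine two_ext K ?_ ?_
      · rw [z0, (hαform X).1]
      · rw [z1, (hαform X).2]; simp [hDdef]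
    rw [hZα] at hZ
    exact hZ
  refine ⟨χ.comp T, ⟨?_, ?_, ?_, ?_, ?_⟩, MonoidHom.ext fun X => ?_⟩
  · intro X Y e
    refine α.injective (hχ.injA ?_)
    simp only [MonoidHom.comp_apply] at e ⊢
    rwa [hTA, hTA] at e
  · intro X Y e
    obtain ⟨X', hX', -⟩ := tw_emb K h12 D hD τ.symm X
    obtain ⟨Y', hY', -⟩ := tw_emb K h12 D hD τ.symm Y
    refine emb_injective K h12 ((tw_bijective K D hD τ.symm).1 ?_)
    rw [hX', hY']
    exact congrArg _ (hχ.injB (by simpa [MonoidHom.comp_apply, T, hX', hY'] using e))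
  · rw [← hχ.rangeA]
    ext g
    constructor
    · rintro ⟨X, rfl⟩; exact ⟨α X, by simp [hTA]⟩
    · rintro ⟨X, rfl⟩; exact ⟨α.symm X, by simp [hTA]⟩
  · rw [← hχ.rangeB]
    have hmap : (bB K).range.map T = (bB K : SU 2 F q →* SU 3 F q).range := by
      refine Subgroup.eq_of_le_of_card_ge ?_ ?_
      · rintro _ ⟨_, ⟨X, rfl⟩, rfl⟩
        obtain ⟨X', hX', -⟩ := tw_emb K h12 D hD τ.symm X
        exact ⟨X', hX'.symm⟩
      · rw [Subgroup.card_map_of_injective (tw_bijective K D hD τ.symm).1]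
    rw [MonoidHom.range_comp, ← Subgroup.map_map, hmap, ← MonoidHom.range_comp]
  · rw [MonoidHom.range_comp, MonoidHom.range_eq_top.2 (tw_bijective K D hD τ.symm).2,
      ← MonoidHom.range_eq_map]
    exact hχ.range
  · simp [hTA, hα]

end CfsgLib.Classical.Phan
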