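import Cfsg.Agent.Lib.Classical.Phan.Basic
import Cfsg.Agent.Lib.AutPSL.Rigid
import Cfsg.Agent.Lib.Classical.Transvection

/-!
# Automorphisms of the two-dimensional special unitary group
-/

set_option autoImplicit false
set_option linter.unusedSectionVars false

namespace CfsgLib.Classical.Phan

open Matrix Cfsg
open CfsgLib.Classical.Herm
open CfsgLib.ClassicalAut (Unitary.Conj Unitary.space Unitary.herm_apply)
open CfsgLib.AutPSL (mkP descend descend_mkP conjMat conjMat_coe conjSL mapMat mapMat_coe fieldSL fieldAut delta graphAut invTr invTr_coe invTrSL mulAut_ext)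

variable {F : Type*} [Field F] [Finite F] {q : ℕ} (K : Unitary.Conj F q)

/-- The entries of an element of `SU` as a matrix. -/
abbrev mat {n : ℕ} (g : SU n F q) : Matrix (Fin n) (Fin n) F :=
  ((g : Matrix.SpecialLinearGroup (Fin n) F) : Matrix (Fin n) (Fin n) F)

theorem mat_ext {n : ℕ} {g h : SU n F q} (e : mat g = mat h) : g = h := Subtype.ext (Subtype.ext e)

theorem mat_mul {n : ℕ} (g h : SU n F q) : mat (g * h) = mat g * mat h := rfl

theorem mat_apply {n : ℕ} (g : SU n F q) (i j : Fin n) :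
    mat g i j = cd (app g (bv (j : ℕ) : Fin n → F)) i := by
  rw [cd_coe, bv_coe, app, mulVec_single_one]
  rfl

include K in
theorem mat_two (g : SU 2 F q) :
    mat g = !![mat g 0 0, -K.bar (mat g 1 0); mat g 1 0, K.bar (mat g 0 0)] ∧
      nm K (mat g 0 0) + nm K (mat g 1 0) = 1 := by
  have hB : g ∈ Blk 0 2 := fun i hi => by
    have : (bv i : Fin 2 → F) = 0 := by rw [bv, dif_neg (by omega)]
    rw [this, app_zero']
  have he := el_unique K (j := 0) (by norm_num) hB
  have h00 : mat g 0 0 = cd (app g (bv 0 : Fin 2 → F)) 0 := mat_apply g 0 0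
  have h10 : mat g 1 0 = cd (app g (bv 0 : Fin 2 → F)) 1 := mat_apply g 1 0
  refine ⟨?_, ?_⟩
  · ext i j
    fin_cases i <;> fin_cases j
    · rfl
    · show mat g 0 1 = _
      rw [mat_apply]
      show cd (app g (bv 1 : Fin 2 → F)) 0 = _
      rw [(he.2.2 _).1, h10]
      simp [cd_bv]
    · rfl
    · show mat g 1 1 = _
      rw [mat_apply]
      show cd (app g (bv 1 : Fin 2 → F)) 1 = _
      rw [(he.2.2 _).2, h00]
      simp [cd_bv]
  · rw [h00, h10]; exact norm_col K (by norm_num) hB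

include K in
theorem exists_two {α β : F} (h : nm K α + nm K β = 1) :
    ∃ g : SU 2 F q, mat g 0 0 = α ∧ mat g 1 0 = β := by
  obtain ⟨g, hg⟩ := exists_el K (n := 2) (j := 0) (by norm_num) h
  refine ⟨g, ?_, ?_⟩
  · rw [mat_apply]; show cd (app g (bv 0 : Fin 2 → F)) 0 = _; rw [(hg.2.2 _).1]; simp [cd_bv]
  · rw [mat_apply]; show cd (app g (bv 0 : Fin 2 → F)) 1 = _; rw [(hg.2.2 _).2]; simp [cd_bv]

/-- The quaternionic structure matrix. -/
def jMat : Matrix (Fin 2) (Fin 2) F := !![0, -1; 1, 0]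

include K in
theorem mem_SU_two (A : Matrix.SpecialLinearGroup (Fin 2) F) :
    A ∈ SU 2 F q ↔ jMat * (A : Matrix (Fin 2) (Fin 2) F).map K.bar = (A : Matrix (Fin 2) (Fin 2) F) * jMat := by
  constructor
  · intro hA
    rw [show (A : Matrix (Fin 2) (Fin 2) F) = mat (⟨A, hA⟩ : SU 2 F q) from rfl,
      (mat_two K ⟨A, hA⟩).1]
    ext i j
    fin_cases i <;> fin_cases j <;> simp [jMat, Matrix.mul_apply, Fin.sum_univ_two, K.bar_bar]
  · intro h
    have e := fun i j => congrFun (congrFun h i) j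
    have e00 := e 0 0; have e10 := e 1 0
    simp [jMat, Matrix.mul_apply, Fin.sum_univ_two] at e00 e10
    have hd := Matrix.det_fin_two (A : Matrix (Fin 2) (Fin 2) F)
    rw [A.det_coe] at hd
    obtain ⟨g, h1, h2⟩ := exists_two K (α := A 0 0) (β := A 1 0)
      (by rw [nm, nm]; linear_combination (A 0 0) * e10 - (A 1 0) * e00 - hd)
    have : g.1 = A := by
      refine Subtype.ext ?_
      show mat g = _
      rw [(mat_two K g).1, h1, h2]
      ext i j
      fin_cases i <;> fin_cases j <;> simp [e10, e00]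
    exact this ▸ g.2

include K in
/-- An automorphism of `SU₂` is conjugation followed by a field automorphism. -/
theorem aut_SU_two (hq : 4 ≤ q) (α : MulAut (SU 2 F q)) :
    ∃ (g : GL (Fin 2) F) (τ : F ≃+* F), ∀ A : SU 2 F q,
      mat (α A) * (g : Matrix (Fin 2) (Fin 2) F) = g * (mat A).map τ := by
  classical
  cases nonempty_fintype F
  obtain ⟨p, hp⟩ := CharP.exists F
  haveI : Fact p.Prime := ⟨CharP.char_is_prime F p⟩
  set E : Subfield F := RingHom.eqLocusField K.bar (RingHom.id F) with hE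
  have hmemE : ∀ x, x ∈ E ↔ K.bar x = x := fun x => Iff.rfl
  haveI : CharP E p := by
    exact RingHom.charP E.subtype Subtype.val_injective p
  haveI : Finite E := Subtype.finite
  obtain ⟨κ, hκ⟩ := exists_nm K (s := (-1 : F)) (by rw [map_neg, map_one])
  have hκ0 : κ ≠ 0 := fun e => by rw [e, nm_zero] at hκ; exact neg_ne_zero.2 one_ne_zero hκ.symm
  obtain ⟨x, -, hx⟩ := exists_norm_one_ne_bar K hq
  let P0 : Matrix (Fin 2) (Fin 2) F := !![1, x; κ⁻¹, K.bar x / κ]
  have hP0 : P0.det ≠ 0 := by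
    simp only [P0, Matrix.det_fin_two_of, one_mul]
    rw [div_eq_mul_inv, ← sub_mul]
    exact mul_ne_zero (sub_ne_zero.2 hx) (inv_ne_zero hκ0)
  let P : GL (Fin 2) F := Matrix.GeneralLinearGroup.mkOfDetNeZero P0 hP0
  have hPv : (P : Matrix (Fin 2) (Fin 2) F) = P0 := rfl
  have hκb : K.bar κ = -κ⁻¹ := by
    field_simp
    rw [nm] at hκ
    linear_combination hκ
  have hJ : jMat * (P : Matrix (Fin 2) (Fin 2) F).map K.bar = κ • (P : Matrix (Fin 2) (Fin 2) F) := by
    rw [hPv]
    ext i j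
    fin_cases i <;> fin_cases j <;>
      simp [P0, jMat, Matrix.mul_apply, Fin.sum_univ_two, map_div₀, K.bar_bar, hκb, hκ0, inv_neg,
        div_neg] <;> field_simp
  have hmapGL : ((P⁻¹ : GL (Fin 2) F) : Matrix (Fin 2) (Fin 2) F).map K.bar *
      (P : Matrix (Fin 2) (Fin 2) F).map K.bar = 1 := by
    rw [← Matrix.map_mul, Units.inv_mul, Matrix.map_one _ (map_zero K.bar) (map_one K.bar)]
  have hiff : ∀ M : Matrix (Fin 2) (Fin 2) F,
      (jMat * ((P : Matrix (Fin 2) (Fin 2) F) * M * ((P⁻¹ : GL (Fin 2) F) : Matrix (Fin 2) (Fin 2) F)).map K.bar =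
        ((P : Matrix (Fin 2) (Fin 2) F) * M * ((P⁻¹ : GL (Fin 2) F) : Matrix (Fin 2) (Fin 2) F)) * jMat) ↔
      M.map K.bar = M := by
    intro M
    set Pm := (P : Matrix (Fin 2) (Fin 2) F)
    set Pi := ((P⁻¹ : GL (Fin 2) F) : Matrix (Fin 2) (Fin 2) F)
    have hPi : Pi * Pm = 1 := Units.inv_mul P
    have hj : Pi * (jMat * Pm.map K.bar) = κ • (1 : Matrix (Fin 2) (Fin 2) F) := by
      rw [hJ, Matrix.mul_smul, hPi]
    constructor
    · intro h
      have h1 := congrArg (fun X => Pi * X * Pm.map K.bar) h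
      simp only [Matrix.map_mul, Matrix.mul_assoc, hmapGL, Matrix.mul_one] at h1
      rw [hJ, ← Matrix.mul_assoc jMat, hJ, Matrix.smul_mul, Matrix.mul_smul, ← Matrix.mul_assoc Pi Pm,
        hPi, Matrix.one_mul, ← Matrix.mul_assoc Pi Pm, hPi, Matrix.one_mul, Matrix.mul_smul,
        Matrix.mul_smul, hPi, Matrix.mul_one] at h1
      exact smul_right_injective _ hκ0 h1
    · intro h
      have hJ' : jMat = κ • (Pm * Pi.map K.bar) := by
        rw [← Matrix.smul_mul, ← hJ, Matrix.mul_assoc, ← Matrix.map_mul, Units.mul_inv,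
          Matrix.map_one _ (map_zero K.bar) (map_one K.bar), Matrix.mul_one]
      rw [Matrix.map_mul, Matrix.map_mul, h, ← Matrix.mul_assoc, ← Matrix.mul_assoc, hJ, hJ',
        Matrix.smul_mul, Matrix.smul_mul, Matrix.mul_smul]
      congr 1
      simp only [Matrix.mul_assoc]
      rw [← Matrix.mul_assoc Pi Pm, hPi, Matrix.one_mul]
  -- the isomorphism with `SL₂` over the fixed field
  let inc : Matrix.SpecialLinearGroup (Fin 2) E →* Matrix.SpecialLinearGroup (Fin 2) F :=
    (conjSL P).toMonoidHom.comp (Matrix.SpecialLinearGroup.map E.subtype)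
  have hinc : ∀ M, (inc M : Matrix (Fin 2) (Fin 2) F) = (P : Matrix (Fin 2) (Fin 2) F) *
      (M : Matrix (Fin 2) (Fin 2) E).map E.subtype * ((P⁻¹ : GL (Fin 2) F) : Matrix (Fin 2) (Fin 2) F) :=
    fun _ => rfl
  have hrange : inc.range = SU 2 F q := by
    ext A
    rw [mem_SU_two K]
    constructor
    · rintro ⟨M, rfl⟩
      rw [hinc, hiff]
      ext i j
      exact (M i j).2
    · intro hA
      set N := ((P⁻¹ : GL (Fin 2) F) : Matrix (Fin 2) (Fin 2) F) * (A : Matrix (Fin 2) (Fin 2) F) *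
        (P : Matrix (Fin 2) (Fin 2) F) with hN
      have hAN : (P : Matrix (Fin 2) (Fin 2) F) * N * ((P⁻¹ : GL (Fin 2) F) : Matrix (Fin 2) (Fin 2) F) = A := by
        rw [hN]; simp [Matrix.mul_assoc]
      have hb : N.map K.bar = N := (hiff N).1 (by rw [hAN]; exact hA)
      let M0 : Matrix (Fin 2) (Fin 2) E := Matrix.of fun i j => ⟨N i j, congrFun (congrFun hb i) j⟩
      have hM0 : M0.map E.subtype = N := rfl
      have hd : M0.det = 1 := Subtype.val_injective (by
        show E.subtype M0.det = _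
        rw [RingHom.map_det]
        show (M0.map E.subtype).det = 1
        rw [hM0, hN, Matrix.det_units_conj' P, A.det_coe])
      refine ⟨⟨M0, hd⟩, Subtype.ext ?_⟩
      exact (hinc _).trans hAN
  have hinj : Function.Injective inc :=
    (conjSL P).injective.comp (fun M N h => Subtype.ext (Matrix.map_injective Subtype.val_injective
      (congrArg Subtype.val h)))
  let Ψ : Matrix.SpecialLinearGroup (Fin 2) E ≃* SU 2 F q :=
    (MonoidHom.ofInjective hinj).trans (MulEquiv.subgroupCongr hrange)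
  have hΨ : ∀ M, mat (Ψ M) = (inc M : Matrix (Fin 2) (Fin 2) F) := fun _ => rfl
  let β : MulAut (Matrix.SpecialLinearGroup (Fin 2) E) := (Ψ.trans α).trans Ψ.symm
  have hperf : commutator (Matrix.SpecialLinearGroup (Fin 2) E) = ⊤ := by
    obtain ⟨ν, h1, h2, h3⟩ := exists_fixed_sq_ne K hq
    exact CfsgLib.Classical.commutator_SL_eq_top (.inr ⟨⟨ν, h1⟩,
      fun e => h2 (congrArg Subtype.val e), fun e => h3 (by rw [← sq]; exact congrArg Subtype.val e)⟩)
  obtain ⟨g, σ, γ, hγ, hβ⟩ := CfsgLib.AutPSL.exists_factorization (F := E) p (le_refl 2) (descend β)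
  let w : GL (Fin 2) E := Matrix.GeneralLinearGroup.mkOfDetNeZero !![0, 1; -1, 0]
    (by simp [Matrix.det_fin_two_of])
  obtain ⟨g', hg'⟩ : ∃ g' : GL (Fin 2) E, descend β = descend (conjSL g' * fieldSL σ) := by
    rcases hγ with rfl | rfl
    · exact ⟨g, by rw [hβ, mul_one, map_mul]; rfl⟩
    · refine ⟨g * CfsgLib.AutPSL.mapGL σ w, ?_⟩
      have hw : (graphAut : MulAut (ProjectiveSpecialLinearGroup (Fin 2) E)) = delta w := by
        refine mulAut_ext fun s => ?_
        rw [CfsgLib.AutPSL.graphAut_mkP, CfsgLib.AutPSL.delta_mkP]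
        congr 1
        refine Subtype.ext ?_
        have hwi : ((w⁻¹ : GL (Fin 2) E) : Matrix (Fin 2) (Fin 2) E) = !![0, -1; 1, 0] := by
          refine Units.inv_eq_of_mul_eq_one_right ?_
          show (!![0, 1; -1, 0] : Matrix (Fin 2) (Fin 2) E) * _ = 1
          ext i j; fin_cases i <;> fin_cases j <;> simp [Matrix.mul_apply, Fin.sum_univ_two]
        rw [invTr_coe, conjMat_coe, hwi, Matrix.SpecialLinearGroup.coe_inv,
          show (w : Matrix (Fin 2) (Fin 2) E) = !![0, 1; -1, 0] from rfl, Matrix.adjugate_fin_two]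
        ext i j
        fin_cases i <;> fin_cases j <;>
          simp [Matrix.mul_apply, Fin.sum_univ_two, Matrix.vecMul, dotProduct]
      rw [hβ, hw, mul_assoc, CfsgLib.AutPSL.fieldAut_mul_delta, ← mul_assoc, ← map_mul, map_mul descend]
      rfl
  have hlift : β = conjSL g' * fieldSL σ := by
    set β' : MulAut (Matrix.SpecialLinearGroup (Fin 2) E) := conjSL g' * fieldSL σ
    refine MulEquiv.ext fun s => ?_
    have hc : ∀ s, (β' s)⁻¹ * β s ∈ Subgroup.center (Matrix.SpecialLinearGroup (Fin 2) E) := fun s => by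
      refine QuotientGroup.eq.1 ?_
      rw [← descend_mkP, ← descend_mkP, hg']
    let χ : Matrix.SpecialLinearGroup (Fin 2) E →* Subgroup.center (Matrix.SpecialLinearGroup (Fin 2) E) :=
      MonoidHom.mk' (fun s => ⟨(β' s)⁻¹ * β s, hc s⟩) fun s t => Subtype.ext (by
        show (β' (s * t))⁻¹ * β (s * t) = (β' s)⁻¹ * β s * ((β' t)⁻¹ * β t)
        rw [map_mul, map_mul, _root_.mul_inv_rev, mul_assoc, ← mul_assoc (β' s)⁻¹,
          ← mul_assoc ((β' t)⁻¹), Subgroup.mem_center_iff.1 (hc s) (β' t)⁻¹, mul_assoc])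
    have hker : commutator (Matrix.SpecialLinearGroup (Fin 2) E) ≤ χ.ker := by
      rw [commutator_eq_closure, Subgroup.closure_le]
      rintro _ ⟨a, b, rfl⟩
      rw [SetLike.mem_coe, MonoidHom.mem_ker, map_commutatorElement,
        commutatorElement_eq_one_iff_mul_comm]
      exact Subtype.ext (Subgroup.mem_center_iff.1 (χ b).2 _)
    rw [hperf] at hker
    have : χ s = 1 := hker (Subgroup.mem_top s)
    exact (inv_mul_eq_one.1 (congrArg Subtype.val this)).symm
  -- extend the field automorphism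
  obtain ⟨τ, hτ⟩ : ∃ τ : F ≃+* F, ∀ e : E, τ (e : F) = (σ e : F) := by
    letI := ZMod.algebra E p
    letI := ZMod.algebra F p
    haveI : @IsScalarTower (ZMod p) E F Algebra.toSMul Algebra.toSMul Algebra.toSMul := IsScalarTower.of_algebraMap_eq' (Subsingleton.elim _ _)
    let σ' : E ≃ₐ[ZMod p] E := AlgEquiv.ofRingEquiv (f := σ) fun r => RingHom.congr_fun
      (Subsingleton.elim (σ.toRingHom.comp (algebraMap (ZMod p) E)) (algebraMap (ZMod p) E)) r
    exact ⟨(σ'.liftNormal F).toRingEquiv, fun e => σ'.liftNormal_commutes F e⟩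
  let ιg : GL (Fin 2) E →* GL (Fin 2) F := Units.map E.subtype.mapMatrix.toMonoidHom
  refine ⟨P * ιg g' * (CfsgLib.AutPSL.mapGL τ P)⁻¹, τ, fun A => ?_⟩
  obtain ⟨M, rfl⟩ := Ψ.surjective A
  have hα : α (Ψ M) = Ψ (conjMat g' (mapMat σ M)) := by
    have := congrArg (fun e : MulAut _ => Ψ (e M)) hlift
    simp [β, MulEquiv.trans_apply] at this
    exact this
  have hmm : ∀ N : Matrix (Fin 2) (Fin 2) E, (N.map σ).map E.subtype = (N.map E.subtype).map τ :=
    fun N => by ext i j; exact (hτ _).symm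
  rw [hα, hΨ, hΨ, hinc, hinc, conjMat_coe, mapMat_coe, Matrix.map_mul, Matrix.map_mul, hmm,
    Units.val_mul, Units.val_mul, Matrix.map_mul, Matrix.map_mul]
  show _ = (P : Matrix (Fin 2) (Fin 2) F) * (ιg g' : Matrix (Fin 2) (Fin 2) F) *
    (((CfsgLib.AutPSL.mapGL τ P)⁻¹ : GL (Fin 2) F) : Matrix (Fin 2) (Fin 2) F) *
    ((CfsgLib.AutPSL.mapGL τ P : Matrix (Fin 2) (Fin 2) F) * _ *
      (((CfsgLib.AutPSL.mapGL τ P)⁻¹ : GL (Fin 2) F) : Matrix (Fin 2) (Fin 2) F))
  have e1 : (ιg g' : Matrix (Fin 2) (Fin 2) F) = (g' : Matrix (Fin 2) (Fin 2) E).map E.subtype := rfl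
  have e2 : ((g'⁻¹ : GL (Fin 2) E) : Matrix (Fin 2) (Fin 2) E).map E.subtype =
      (((ιg g')⁻¹ : GL (Fin 2) F) : Matrix (Fin 2) (Fin 2) F) := by
    rw [← map_inv]; rfl
  rw [← e1, e2]
  simp [Matrix.mul_assoc]
  rw [← Matrix.mul_assoc (((P : Matrix (Fin 2) (Fin 2) F))⁻¹.map τ), ← Matrix.map_mul,
    ← Matrix.coe_units_inv, Units.inv_mul, Matrix.map_one _ (map_zero τ) (map_one τ), Matrix.one_mul]

include K in
/-- An automorphism of `SU₂` preserving the diagonal subgroup. -/
theorem aut_SU_two_diag (hq : 4 ≤ q) (α : MulAut (SU 2 F q))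
    (hD : ∀ A : SU 2 F q, mat A 1 0 = 0 → mat (α A) 1 0 = 0) :
    ∃ (τ : F ≃+* F) (μ : F), nm K μ = 1 ∧
      ∀ A : SU 2 F q, mat (α A) 0 0 = τ (mat A 0 0) ∧ mat (α A) 1 0 = μ * τ (mat A 1 0) := by
  obtain ⟨g, τ, h⟩ := aut_SU_two K hq α
  set G := (g : Matrix (Fin 2) (Fin 2) F)
  have he : ∀ (A : SU 2 F q) (i j : Fin 2),
      mat (α A) i 0 * G 0 j + mat (α A) i 1 * G 1 j = G i 0 * τ (mat A 0 j) + G i 1 * τ (mat A 1 j) :=
    fun A i j => by
      have := congrFun (congrFun (h A) i) j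
      simpa [Matrix.mul_apply, Fin.sum_univ_two] using this
  obtain ⟨l, hl, hl'⟩ := exists_norm_one_ne_bar K hq
  obtain ⟨A, hA0, hA1⟩ := exists_two K (α := l) (β := (0 : F)) (by rw [hl, nm_zero, add_zero])
  have hA01 : mat A 0 1 = 0 := by rw [(mat_two K A).1]; simp [hA1]
  have hA11 : mat A 1 1 = K.bar l := by rw [(mat_two K A).1]; simp [hA0]
  have hB10 := hD A hA1
  have hB01 : mat (α A) 0 1 = 0 := by rw [(mat_two K (α A)).1]; simp [hB10]
  have c00 := he A 0 0; have c01 := he A 0 1; have c10 := he A 1 0; have c11 := he A 1 1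
  simp only [hA0, hA1, hA01, hA11, hB10, hB01, map_zero, mul_zero, zero_mul, add_zero, zero_add]
    at c00 c01 c10 c11
  have hne : τ l - τ (K.bar l) ≠ 0 := sub_ne_zero.2 fun e => hl' (τ.injective e).symm
  have hdet : G 0 0 * G 1 1 - G 0 1 * G 1 0 ≠ 0 := by
    rw [← Matrix.det_fin_two]; exact (g.isUnit.map Matrix.detMonoidHom).ne_zero
  have hμ : ∀ (τ' : F ≃+* F) (μ : F),
      (∀ A : SU 2 F q, mat (α A) 0 0 = τ' (mat A 0 0) ∧ mat (α A) 1 0 = μ * τ' (mat A 1 0)) →
      nm K μ = 1 := by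
    intro τ' μ hf
    obtain ⟨W, hW0, hW1⟩ := exists_two K (α := (0 : F)) (β := 1) (by rw [nm_zero, nm_one, zero_add])
    have h2 := (mat_two K (α W)).2
    rw [(hf W).1, (hf W).2, hW0, hW1, map_zero, map_one, mul_one, nm_zero, zero_add] at h2
    exact h2
  by_cases h00 : G 0 0 = 0
  · have h01 : G 0 1 ≠ 0 := fun e => hdet (by rw [h00, e]; ring)
    have h10 : G 1 0 ≠ 0 := fun e => hdet (by rw [h00, e]; ring)
    have h11 : G 1 1 = 0 := by
      have e0 : mat (α A) 1 1 = τ l := mul_right_cancel₀ h10 (c10.trans (mul_comm _ _))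
      rw [e0] at c11
      exact (mul_eq_zero.1 (show G 1 1 * (τ l - τ (K.bar l)) = 0 by linear_combination c11)).resolve_right hne
    have hf : ∀ B : SU 2 F q, mat (α B) 0 0 = (K.bar.trans τ) (mat B 0 0) ∧
        mat (α B) 1 0 = -(G 1 0 / G 0 1) * (K.bar.trans τ) (mat B 1 0) := by
      intro B
      have b01 := he B 0 1
      have b11 := he B 1 1
      have m01 : mat B 0 1 = -K.bar (mat B 1 0) := by
        conv_lhs => rw [(mat_two K B).1]
        rfl
      have m11 : mat B 1 1 = K.bar (mat B 0 0) := by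
        conv_lhs => rw [(mat_two K B).1]
        rfl
      simp only [h00, h11, m01, m11, mul_zero, zero_mul, add_zero, zero_add, map_neg] at b01 b11
      refine ⟨mul_right_cancel₀ h01 (b01.trans (mul_comm _ _)), mul_right_cancel₀ h01 ?_⟩
      rw [b11]
      show _ = -(G 1 0 / G 0 1) * τ (K.bar (mat B 1 0)) * G 0 1
      field_simp
    exact ⟨_, _, hμ _ _ hf, hf⟩
  · have e0 : mat (α A) 0 0 = τ l := mul_right_cancel₀ h00 (c00.trans (mul_comm _ _))
    rw [e0] at c01
    have h01 : G 0 1 = 0 :=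
      (mul_eq_zero.1 (show G 0 1 * (τ l - τ (K.bar l)) = 0 by linear_combination c01)).resolve_right hne
    have h11 : G 1 1 ≠ 0 := fun e => hdet (by rw [h01, e]; ring)
    have e1 : mat (α A) 1 1 = τ (K.bar l) := mul_right_cancel₀ h11 (c11.trans (mul_comm _ _))
    rw [e1] at c10
    have h10 : G 1 0 = 0 :=
      (mul_eq_zero.1 (show G 1 0 * (τ l - τ (K.bar l)) = 0 by linear_combination -c10)).resolve_right hne
    have hf : ∀ B : SU 2 F q, mat (α B) 0 0 = τ (mat B 0 0) ∧
        mat (α B) 1 0 = G 1 1 / G 0 0 * τ (mat B 1 0) := by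
      intro B
      have b00 := he B 0 0
      have b10 := he B 1 0
      simp only [h01, h10, mul_zero, zero_mul, add_zero, zero_add] at b00 b10
      refine ⟨mul_right_cancel₀ h00 (b00.trans (mul_comm _ _)), mul_right_cancel₀ h00 ?_⟩
      rw [b10]; field_simp
    exact ⟨_, _, hμ _ _ hf, hf⟩

end CfsgLib.Classical.Phan
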