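import Cfsg.Agent.Lib.Classical.UnitaryTrans

/-!
# Coordinate blocks of the special unitary group and their action on coordinates
-/

set_option autoImplicit false
set_option linter.unusedSectionVars false

namespace CfsgLib.Classical.Phan

open Matrix Cfsg
open CfsgLib.Classical.Herm
open CfsgLib.ClassicalAut (Unitary.Conj Unitary.space Unitary.herm_apply)

variable {F : Type*} [Field F] [Finite F] {q : ℕ} (K : Unitary.Conj F q) {n : ℕ}

local notation "H" => hermForm n F q

/-- The norm to the fixed field. -/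
def nm (x : F) : F := x * K.bar x

theorem bar_nm (x : F) : K.bar (nm K x) = nm K x := bar_norm K x

theorem nm_mul (x y : F) : nm K (x * y) = nm K x * nm K y := by
  simp only [nm, map_mul]; ring

theorem nm_zero : nm K (0 : F) = 0 := by simp [nm]

theorem nm_one : nm K (1 : F) = 1 := by simp [nm]

theorem nm_neg (x : F) : nm K (-x) = nm K x := by simp [nm]

theorem nm_bar (x : F) : nm K (K.bar x) = nm K x := by simp only [nm, K.bar_bar]; ring

theorem nm_eq_zero {x : F} : nm K x = 0 ↔ x = 0 := by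
  simp [nm, map_eq_zero]

theorem nm_fixed {x : F} (h : K.bar x = x) : nm K x = x * x := by rw [nm, h]

theorem exists_nm {s : F} (hs : K.bar s = s) : ∃ x, nm K x = s := K.exists_norm s hs

theorem bar_one_sub {s : F} (hs : K.bar s = s) : K.bar (1 - s) = 1 - s := by
  rw [map_sub, map_one, hs]

/-! ### Field lemmas -/

include K in
theorem root_bound {P : Polynomial F} (hP : P ≠ 0) {S : Type*} [Finite S] (f : S → F)
    (hf : Function.Injective f) (h : ∀ s, P.eval (f s) = 0) : Nat.card S ≤ P.natDegree := by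
  classical
  have := Fintype.ofFinite S
  rw [Nat.card_eq_fintype_card, ← Finset.card_univ, ← Finset.card_image_of_injective _ hf]
  refine (Finset.card_le_card ?_).trans ((Multiset.toFinset_card_le P.roots).trans
    (Polynomial.card_roots' P))
  intro x hx
  obtain ⟨s, -, rfl⟩ := Finset.mem_image.1 hx
  exact Multiset.mem_toFinset.2 ((Polynomial.mem_roots hP).2 (h s))

theorem exists_fixed_sq_ne (hq : 4 ≤ q) :
    ∃ ν : F, K.bar ν = ν ∧ ν ≠ 0 ∧ ν * ν ≠ 1 := by
  by_contra hc
  push Not at hc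
  have h := root_bound K (P := Polynomial.X ^ 2 - Polynomial.C (1 : F))
    (Polynomial.X_pow_sub_C_ne_zero (by norm_num) 1)
    (fun c : {c : F // K.bar c = c ∧ c ≠ 0} => (c : F)) Subtype.val_injective
    (fun c => by simp [sq, hc c.1 c.2.1 c.2.2])
  rw [card_fixed K, Polynomial.natDegree_X_pow_sub_C] at h
  omega

theorem exists_fixed_four_ne (hq : 4 ≤ q) (h3 : (3 : F) = 0) :
    ∃ ν : F, K.bar ν = ν ∧ ν ≠ 0 ∧ ν * ν ≠ 1 ∧ ν * ν ≠ -1 := by
  cases nonempty_fintype F
  by_contra hc
  push Not at hc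
  have h := root_bound K (P := Polynomial.X ^ 4 - Polynomial.C (1 : F))
    (Polynomial.X_pow_sub_C_ne_zero (by norm_num) 1)
    (fun c : {c : F // K.bar c = c ∧ c ≠ 0} => (c : F)) Subtype.val_injective
    (fun c => by
      have e : (c.1 * c.1) * (c.1 * c.1) = 1 := by
        by_cases h1 : c.1 * c.1 = 1
        · rw [h1, one_mul]
        · rw [hc c.1 c.2.1 c.2.2 h1]; ring
      simp [show c.1 ^ 4 = (c.1 * c.1) * (c.1 * c.1) by ring, e])
  rw [card_fixed K, Polynomial.natDegree_X_pow_sub_C] at h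
  have hq0 : ((q ^ 2 : ℕ) : F) = 0 := by
    rw [← K.card, Nat.card_eq_fintype_card]; exact Nat.cast_card_eq_zero F
  rcases (show q = 4 ∨ q = 5 by omega) with rfl | rfl
  · refine one_ne_zero (α := F) ?_
    push_cast at hq0
    linear_combination hq0 - 5 * h3
  · refine one_ne_zero (α := F) ?_
    push_cast at hq0
    linear_combination hq0 - 8 * h3

theorem exists_fixed_t (hq : 4 ≤ q) :
    ∃ t : F, K.bar t = t ∧ t ≠ 0 ∧ t ≠ 1 ∧ t * t ≠ 1 := by
  obtain ⟨ν, h1, h2, h3⟩ := exists_fixed_sq_ne K hq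
  exact ⟨ν, h1, h2, fun e => h3 (by rw [e, one_mul]), h3⟩

theorem exists_fixed_avoid (hq : 4 ≤ q) (x y : F) : ∃ t : F, K.bar t = t ∧ t ≠ x ∧ t ≠ y := by
  by_contra hc
  push Not at hc
  obtain ⟨ν, hν, hν0, hν1⟩ := exists_fixed_sq_ne K hq
  have hν' : ν ≠ 1 := fun e => hν1 (by rw [e, one_mul])
  have h0 := hc 0 (map_zero _)
  have h1 := hc 1 (map_one _)
  have h2 := hc ν hν
  by_cases a : (0 : F) = x
  · have : (1 : F) = y := h1 (fun e => one_ne_zero (e.trans a.symm))
    exact hν' ((h2 (fun e => hν0 (e.trans a.symm))).trans this.symm)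
  · have b := h0 a
    by_cases c : (1 : F) = x
    · exact hν0 ((h2 (fun e => hν' (e.trans c.symm))).trans b.symm)
    · exact one_ne_zero ((h1 c).trans b.symm)

theorem exists_trace_eq {s : F} (hs : K.bar s = s) : ∃ α, α + K.bar α = s := by
  obtain ⟨y, hy⟩ := K.exists_trace
  have hb : K.bar (y + K.bar y) = y + K.bar y := by rw [map_add, K.bar_bar, add_comm]
  refine ⟨s / (y + K.bar y) * y, ?_⟩
  rw [map_mul, map_div₀, hs, hb, ← mul_add, div_mul_cancel₀ _ hy]

theorem exists_norm_one_ne_bar (hq : 4 ≤ q) : ∃ ζ : F, nm K ζ = 1 ∧ K.bar ζ ≠ ζ := by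
  by_contra hc
  push Not at hc
  have h := root_bound K (P := Polynomial.X ^ 2 - Polynomial.C (1 : F))
    (Polynomial.X_pow_sub_C_ne_zero (by norm_num) 1)
    (fun c : {c : F // c * K.bar c = 1} => (c : F)) Subtype.val_injective
    (fun c => by
      have := c.2
      rw [hc c.1 c.2] at this
      simp [sq, this])
  rw [card_norm_one K, Polynomial.natDegree_X_pow_sub_C] at h
  omega

/-! ### Vectors -/

/-- The standard vectors. -/
def bv (i : ℕ) : Fin n → F := if h : i < n then Pi.single ⟨i, h⟩ 1 else 0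

theorem bv_coe (i : Fin n) : (bv (i : ℕ) : Fin n → F) = Pi.single i 1 := by rw [bv, dif_pos i.2]

theorem bv_apply (i : ℕ) (j : Fin n) : (bv i : Fin n → F) j = if (j : ℕ) = i then 1 else 0 := by
  unfold bv
  split_ifs with h1 h2 h2
  · subst h2; simp
  · exact Pi.single_eq_of_ne (fun e => h2 (congrArg Fin.val e)) _
  · exact absurd j.2 (h2 ▸ h1)
  · rfl

/-- The coordinate of a vector at a natural index. -/
def cd (v : Fin n → F) (i : ℕ) : F := if h : i < n then v ⟨i, h⟩ else 0

theorem cd_coe (v : Fin n → F) (i : Fin n) : cd v (i : ℕ) = v i := by rw [cd, dif_pos i.2]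

include K in
theorem h_bv (v : Fin n → F) (i : ℕ) : H v (bv i) = cd v i := by
  unfold bv cd
  split_ifs with h
  · exact h_single K v _
  · exact (Unitary.space (n := n) K).zero_right v

theorem cd_bv (i j : ℕ) : cd (bv i : Fin n → F) j = if j = i ∧ j < n then 1 else 0 := by
  unfold cd
  split_ifs with h1 h2 h2
  · rw [bv_apply]; simp [h2.1]
  · rw [bv_apply, if_neg (fun e => h2 ⟨e, h1⟩)]
  · exact absurd h2.2 h1
  · rfl

theorem cd_add (v w : Fin n → F) (i : ℕ) : cd (v + w) i = cd v i + cd w i := by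
  unfold cd; split_ifs <;> simp

theorem cd_sub (v w : Fin n → F) (i : ℕ) : cd (v - w) i = cd v i - cd w i := by
  unfold cd; split_ifs <;> simp

theorem cd_smul (c : F) (v : Fin n → F) (i : ℕ) : cd (c • v) i = c * cd v i := by
  unfold cd; split_ifs <;> simp

theorem ext_cd {v w : Fin n → F} (h : ∀ i, i < n → cd v i = cd w i) : v = w :=
  funext fun i => by rw [← cd_coe v i, ← cd_coe w i]; exact h i i.2

theorem mem_W {k : ℕ} {v : Fin n → F} : v ∈ W k ↔ ∀ i, i < k → cd v i = 0 := by
  refine ⟨fun hv i hi => ?_, fun h i hi => by rw [← cd_coe v i]; exact h i hi⟩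
  unfold cd
  split_ifs with h
  · exact hv ⟨i, h⟩ hi
  · rfl

theorem bv_mem_W {k i : ℕ} (h : k ≤ i) : (bv i : Fin n → F) ∈ W k :=
  mem_W.2 fun j hj => by rw [cd_bv, if_neg (by omega)]

theorem app_zero' (g : SU n F q) : app g (0 : Fin n → F) = 0 := mulVec_zero _

theorem app_sub' (g : SU n F q) (x y : Fin n → F) : app g (x - y) = app g x - app g y :=
  mulVec_sub _ _ _

/-! ### Subgroups fixing coordinates -/

/-- Fixes the standard vectors outside the interval. -/
def Blk (a b : ℕ) : Subgroup (SU n F q) where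
  carrier := {g | ∀ i, i < a ∨ b ≤ i → app g (bv i : Fin n → F) = bv i}
  one_mem' := fun _ _ => app_one _
  mul_mem' := fun {g h} hg hh i hi => by rw [app_mul, hh i hi, hg i hi]
  inv_mem' := fun {g} hg i hi => by conv_lhs => rw [← hg i hi, app_inv]

/-- Fixes the first `k` standard vectors. -/
def Fix (k : ℕ) : Subgroup (SU n F q) where
  carrier := {g | ∀ i, i < k → app g (bv i : Fin n → F) = bv i}
  one_mem' := fun _ _ => app_one _
  mul_mem' := fun {g h} hg hh i hi => by rw [app_mul, hh i hi, hg i hi]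
  inv_mem' := fun {g} hg i hi => by conv_lhs => rw [← hg i hi, app_inv]

theorem Blk_le_Fix {a b k : ℕ} (h : k ≤ a) : (Blk a b : Subgroup (SU n F q)) ≤ Fix k :=
  fun _ hg i hi => hg i (.inl (by omega))

theorem Fix_anti {j k : ℕ} (h : j ≤ k) : (Fix k : Subgroup (SU n F q)) ≤ Fix j :=
  fun _ hg i hi => hg i (by omega)

theorem Fix_zero : (Fix 0 : Subgroup (SU n F q)) = ⊤ :=
  eq_top_iff.2 fun _ _ i hi => absurd hi (Nat.not_lt_zero _)

theorem Blk_mono {a b a' b' : ℕ} (h1 : a' ≤ a) (h2 : b ≤ b') :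
    (Blk a b : Subgroup (SU n F q)) ≤ Blk a' b' :=
  fun _ hg i hi => hg i (by omega)

include K in
theorem cd_app_of_fix {g : SU n F q} {i : ℕ} (hg : app g (bv i : Fin n → F) = bv i) (v : Fin n → F) :
    cd (app g v) i = cd v i := by
  rw [← h_bv K, ← h_bv K v, ← h_app g v (bv i), hg]

include K in
theorem Fix_app_W {k : ℕ} {g : SU n F q} (hg : g ∈ Fix k) {v : Fin n → F} (hv : v ∈ W k) :
    app g v ∈ W k :=
  mem_W.2 fun i hi => by rw [cd_app_of_fix K (hg i hi)]; exact mem_W.1 hv i hi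

/-- An element fixing the support of a vector fixes it. -/
theorem fix_of_supp {g : SU n F q} {v : Fin n → F}
    (h : ∀ i, i < n → cd v i ≠ 0 → app g (bv i : Fin n → F) = bv i) : app g v = v := by
  classical
  have hv : v = ∑ i : Fin n, v i • (bv (i : ℕ) : Fin n → F) := by
    funext j
    simp only [bv_coe, Finset.sum_apply, Pi.smul_apply, Pi.single_apply, smul_eq_mul, mul_ite,
      mul_one, mul_zero, Finset.sum_ite_eq, Finset.mem_univ, if_true]
  conv_lhs => rw [hv]
  conv_rhs => rw [hv]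
  rw [app, mulVec_sum]
  refine Finset.sum_congr rfl fun i _ => ?_
  show app g (v i • (bv (i : ℕ) : Fin n → F)) = _
  rw [app_smul]
  by_cases hi : v i = 0
  · rw [hi, zero_smul, zero_smul]
  · rw [h i i.2 (by rwa [cd_coe])]

theorem eq_of_basis {g h : SU n F q}
    (e : ∀ i, i < n → app g (bv i : Fin n → F) = app h (bv i)) : g = h := by
  have h1 : h⁻¹ * g = 1 := ext_app fun v => by
    rw [app_one]
    exact fix_of_supp fun i hi _ => by rw [app_mul, e i hi, app_inv]
  exact (inv_mul_eq_one.1 h1).symm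

include K in
theorem eq_one_of_almost {g : SU n F q} {l : ℕ}
    (h : ∀ i, i < n → i ≠ l → app g (bv i : Fin n → F) = bv i) : g = 1 := by
  classical
  by_cases hl : l < n
  swap
  · exact eq_of_basis fun i hi => by rw [app_one]; exact h i hi (by omega)
  set d := cd (app g (bv l : Fin n → F)) l
  have hgl : app g (bv l : Fin n → F) = d • bv l := by
    refine ext_cd fun i hi => ?_
    rw [cd_smul, cd_bv]
    by_cases hil : i = l
    · subst hil; rw [if_pos ⟨rfl, hl⟩, mul_one]
    · rw [if_neg (fun e => hil e.1), mul_zero, cd_app_of_fix K (h i hi hil), cd_bv,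
        if_neg (fun e => hil e.1)]
  have hdiag : (g.1 : Matrix (Fin n) (Fin n) F) =
      Matrix.diagonal (fun i : Fin n => if (i : ℕ) = l then d else 1) := by
    refine Matrix.ext_of_mulVec_single fun j => ?_
    rw [diagonal_mulVec_single, mul_one]
    show app g (Pi.single j 1) = _
    rw [← bv_coe]
    by_cases hj : (j : ℕ) = l
    · rw [hj, hgl, if_pos rfl, ← hj, bv_coe]
      funext i; simp [Pi.single_apply]
    · rw [h j j.2 hj, if_neg hj, bv_coe]
  have hd : d = 1 := by
    have h1 := g.1.2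
    rw [hdiag, det_diagonal, Finset.prod_eq_single (⟨l, hl⟩ : Fin n)
      (fun b _ hb => if_neg (fun e => hb (Fin.ext e))) (by simp), if_pos rfl] at h1
    exact h1
  refine eq_of_basis fun i hi => ?_
  rw [app_one]
  by_cases hil : i = l
  · subst hil; rw [hgl, hd, one_smul]
  · exact h i hi hil

include K in
theorem Fix_top {k : ℕ} (h : n ≤ k + 1) {g : SU n F q} (hg : g ∈ Fix k) : g = 1 :=
  eq_one_of_almost K (l := n - 1) fun i hi hne => hg i (by omega)

include K in
theorem comm_Blk_Fix {a b c : ℕ} (hbc : b ≤ c) {g l : SU n F q} (hg : g ∈ Blk a b) (hl : l ∈ Fix c) :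
    Commute g l := by
  refine eq_of_basis fun i hi => ?_
  rw [app_mul, app_mul]
  by_cases hib : i < b
  · rw [hl i (by omega)]
    refine (fix_of_supp fun j hj hne => hl j ?_).symm
    by_contra hjc
    refine hne ?_
    rw [cd_app_of_fix K (hg j (.inr (by omega))), cd_bv, if_neg (by omega)]
  · rw [hg i (.inr (by omega))]
    refine fix_of_supp fun j hj hne => hg j ?_
    by_contra hjb
    refine hne ?_
    rw [cd_app_of_fix K (hl j (by omega)), cd_bv, if_neg (by omega)]

/-! ### Elements of a two-dimensional block -/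

/-- `g` acts on the pair `j, j + 1` by the matrix of first column `(α, β)`. -/
def IsEl (g : SU n F q) (j : ℕ) (α β : F) : Prop :=
  g ∈ Blk j (j + 2) ∧ app g (bv j : Fin n → F) = α • bv j + β • bv (j + 1) ∧
    ∀ v : Fin n → F, cd (app g v) j = α * cd v j - K.bar β * cd v (j + 1) ∧
      cd (app g v) (j + 1) = β * cd v j + K.bar α * cd v (j + 1)

theorem exists_el {j : ℕ} (hj : j + 1 < n) {α β : F} (h : nm K α + nm K β = 1) :
    ∃ g : SU n F q, IsEl K g j α β := by
  set u : Fin n → F := bv j with hu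
  set w : Fin n → F := bv (j + 1) with hw
  have h1 : H u u = 1 := by rw [hu, h_bv K, cd_bv, if_pos ⟨rfl, by omega⟩]
  have h2 : H w w = 1 := by rw [hw, h_bv K, cd_bv, if_pos ⟨rfl, hj⟩]
  have huw : H u w = 0 := by rw [hu, hw, h_bv K, cd_bv, if_neg (by omega)]
  obtain ⟨g, -, hgu, hgw, hfix⟩ := exists_plane_move K (W := (⊤ : Submodule F (Fin n → F)))
    trivial trivial h1 h2 huw (α := α) (β := β) h
  have hB : g ∈ Blk j (j + 2) := fun i hi => hfix _
    (by rw [hu, h_bv K, cd_bv, if_neg (by omega)]) (by rw [hw, h_bv K, cd_bv, if_neg (by omega)])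
  refine ⟨g, hB, hgu, fun v => ?_⟩
  set r := v - cd v j • u - cd v (j + 1) • w with hr
  have hrfix : app g r = r := by
    refine hfix r ?_ ?_
    · rw [hu, h_bv K, hr, cd_sub, cd_sub, cd_smul, cd_smul, hu, hw, cd_bv, cd_bv,
        if_pos ⟨rfl, by omega⟩, if_neg (by omega)]
      ring
    · rw [hw, h_bv K, hr, cd_sub, cd_sub, cd_smul, cd_smul, hu, hw, cd_bv, cd_bv,
        if_neg (by omega), if_pos ⟨rfl, hj⟩]
      ring
  have hv : v = r + cd v j • u + cd v (j + 1) • w := by rw [hr]; abel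
  have hgv : app g v = r + cd v j • (α • u + β • w) +
      cd v (j + 1) • ((-K.bar β) • u + K.bar α • w) := by
    conv_lhs => rw [hv]
    rw [app_add, app_add, app_smul, app_smul, hrfix, hgu, hgw]
  have hrj : cd r j = 0 := by
    rw [hr, cd_sub, cd_sub, cd_smul, cd_smul, hu, hw, cd_bv, cd_bv, if_pos ⟨rfl, by omega⟩,
      if_neg (by omega)]
    ring
  have hrj' : cd r (j + 1) = 0 := by
    rw [hr, cd_sub, cd_sub, cd_smul, cd_smul, hu, hw, cd_bv, cd_bv, if_neg (by omega),
      if_pos ⟨rfl, hj⟩]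
    ring
  rw [hgv]
  simp only [cd_add, cd_smul, hrj, hrj', hu, hw, cd_bv, show j < n by omega, hj, and_true,
    show ¬ j = j + 1 by omega, show ¬ j + 1 = j by omega, if_true, if_false]
  constructor <;> ring

theorem IsEl.cd_ne {g : SU n F q} {j : ℕ} {α β : F} (hg : IsEl K g j α β) (v : Fin n → F) {i : ℕ}
    (h1 : i ≠ j) (h2 : i ≠ j + 1) : cd (app g v) i = cd v i :=
  cd_app_of_fix K (hg.1 i (by omega)) v

include K in
theorem Blk_cd {g : SU n F q} {a b : ℕ} (hg : g ∈ Blk a b) (v : Fin n → F) {i : ℕ}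
    (h : i < a ∨ b ≤ i) : cd (app g v) i = cd v i :=
  cd_app_of_fix K (hg i h) v

include K in
theorem norm_col {j : ℕ} (hj : j + 1 < n) {g : SU n F q} (hg : g ∈ Blk j (j + 2)) :
    nm K (cd (app g (bv j : Fin n → F)) j) + nm K (cd (app g (bv j : Fin n → F)) (j + 1)) = 1 := by
  set x := app g (bv j : Fin n → F) with hxdef
  have hx : H x x = 1 := by rw [hxdef, h_app, h_bv K, cd_bv, if_pos ⟨rfl, by omega⟩]
  rw [Unitary.herm_apply K, Finset.sum_eq_add (⟨j, by omega⟩ : Fin n) ⟨j + 1, hj⟩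
    (by simp) (fun i _ hi => ?_) (by simp) (by simp)] at hx
  · have e1 : cd x j = x ⟨j, by omega⟩ := by rw [cd, dif_pos]
    have e2 : cd x (j + 1) = x ⟨j + 1, hj⟩ := by rw [cd, dif_pos hj]
    rw [e1, e2]; exact hx
  · have : x i = 0 := by
      rw [← cd_coe x i, Blk_cd K hg _ (a := j) (b := j + 2), cd_bv, if_neg]
      · exact fun e => hi.1 (Fin.ext e.1)
      · have h1 : (i : ℕ) ≠ j := fun e => hi.1 (Fin.ext e)
        have h2 : (i : ℕ) ≠ j + 1 := fun e => hi.2 (Fin.ext e)
        omega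
    rw [this, zero_mul]

include K in
theorem el_unique {j : ℕ} (hj : j + 1 < n) {g : SU n F q} (hg : g ∈ Blk j (j + 2)) :
    IsEl K g j (cd (app g (bv j : Fin n → F)) j) (cd (app g (bv j : Fin n → F)) (j + 1)) := by
  set α := cd (app g (bv j : Fin n → F)) j
  set β := cd (app g (bv j : Fin n → F)) (j + 1)
  obtain ⟨e, he⟩ := exists_el K hj (norm_col K hj hg)
  have hge : g = e := by
    refine (inv_mul_eq_one.1 (eq_one_of_almost K (l := j + 1) fun i hi hne => ?_)).symm
    rw [app_mul]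
    by_cases hij : i = j
    · subst hij
      have hcol : app g (bv i : Fin n → F) = app e (bv i) := by
        rw [he.2.1]
        refine ext_cd fun l hl => ?_
        simp only [cd_add, cd_smul, cd_bv]
        by_cases h1 : l = i
        · subst h1; simp [hi, α]
        by_cases h2 : l = i + 1
        · subst h2; simp [hl, β]
        rw [Blk_cd K hg _ (a := i) (b := i + 2) (by omega), cd_bv, if_neg (fun e => h1 e.1),
          if_neg (fun e => h2 e.1), mul_zero, mul_zero, add_zero]
      rw [hcol, app_inv]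
    · rw [hg i (by omega)]
      conv_lhs => arg 2; rw [← he.1 i (by omega)]
      rw [app_inv]
  exact hge ▸ he

/-! ### Moves -/

theorem exists_el_zero {a b : F} (h : nm K a + nm K b ≠ 0) :
    ∃ α β : F, nm K α + nm K β = 1 ∧ α * a - K.bar β * b = 0 := by
  obtain ⟨μ, hμ⟩ := exists_nm K (s := (nm K a + nm K b)⁻¹)
    (by rw [map_inv₀, map_add, bar_nm, bar_nm])
  refine ⟨μ * b, K.bar (μ * a), ?_, by rw [K.bar_bar]; ring⟩
  rw [nm_mul, nm_bar, nm_mul, ← mul_add, add_comm (nm K b), hμ, inv_mul_cancel₀ h]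

theorem exists_el_scale {a b : F} (h : nm K a + nm K b = 0) (hb : b ≠ 0) {ν : F} (hν : K.bar ν = ν)
    (hν0 : ν ≠ 0) : ∃ α β : F, nm K α + nm K β = 1 ∧ α * a - K.bar β * b = ν * a ∧
      β * a + K.bar α * b = ν * b := by
  obtain ⟨α, hα⟩ := exists_trace_eq K (s := ν + ν⁻¹) (by rw [map_add, map_inv₀, hν])
  have hbb : K.bar b ≠ 0 := (map_ne_zero K.bar).2 hb
  have hab : a * K.bar a = -(b * K.bar b) := eq_neg_of_add_eq_zero_left h
  have hν1 : ν * (α + K.bar α) = ν * ν + 1 := by rw [hα, mul_add, mul_inv_cancel₀ hν0]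
  refine ⟨α, (K.bar α - ν) * K.bar a / K.bar b, ?_, ?_, ?_⟩
  · simp only [nm, map_div₀, map_mul, map_sub, K.bar_bar, hν]
    field_simp
    linear_combination (α - ν) * (K.bar α - ν) * hab + (b * K.bar b) * hν1
  · simp only [map_div₀, map_mul, map_sub, K.bar_bar, hν]
    field_simp
    ring
  · field_simp
    linear_combination (K.bar α - ν) * hab

theorem exists_el_move {b c b' c' : F} (h : nm K b + nm K c ≠ 0)
    (h' : nm K b' + nm K c' = nm K b + nm K c) :
    ∃ α β : F, nm K α + nm K β = 1 ∧ α * b - K.bar β * c = b' ∧ β * b + K.bar α * c = c' := by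
  set s := nm K b + nm K c with hs
  have hsb : K.bar s = s := by rw [hs, map_add, bar_nm, bar_nm]
  have hs' : b * K.bar b + c * K.bar c = s := rfl
  have h'' : b' * K.bar b' + c' * K.bar c' = s := h'
  refine ⟨(b' * K.bar b + K.bar c' * c) / s, (c' * K.bar b - K.bar b' * c) / s, ?_, ?_, ?_⟩
  · simp only [nm, map_div₀, map_mul, map_add, map_sub, K.bar_bar, hsb]
    field_simp
    linear_combination (b * K.bar b + c * K.bar c) * h'' + s * hs'
  · simp only [map_div₀, map_mul, map_sub, K.bar_bar, hsb]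
    field_simp
    linear_combination b' * hs'
  · simp only [map_div₀, map_mul, map_add, K.bar_bar, hsb]
    field_simp
    linear_combination c' * hs'

theorem exists_el_valid (hq : 4 ≤ q) (a b : F) :
    ∃ α β : F, nm K α + nm K β = 1 ∧ nm K (α * a - K.bar β * b) ≠ 1 := by
  by_cases ha : nm K a = 1
  swap
  · exact ⟨1, 0, by rw [nm_one, nm_zero, add_zero], by simpa using ha⟩
  by_cases hs : nm K a + nm K b = 0
  · obtain ⟨ν, hν, hν0, hν1⟩ := exists_fixed_sq_ne K hq
    have hb : b ≠ 0 := fun e => one_ne_zero (α := F) (by rw [e, nm_zero, add_zero, ha] at hs; exact hs)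
    obtain ⟨α, β, h1, h2, -⟩ := exists_el_scale K hs hb hν hν0
    exact ⟨α, β, h1, by rw [h2, nm_mul, ha, mul_one, nm_fixed K hν]; exact hν1⟩
  · obtain ⟨α, β, h1, h2⟩ := exists_el_zero K hs
    exact ⟨α, β, h1, by rw [h2, nm_zero]; exact zero_ne_one⟩

theorem exists_el_valid_norm (hq : 4 ≤ q) {a b t : F} (ha : nm K a = 1) (hb : nm K b = 1)
    (ht : K.bar t = t) (ht0 : t ≠ 0) (ht1 : t ≠ 1) :
    ∃ α β : F, nm K α + nm K β = 1 ∧ nm K α = t ∧ nm K (α * a - K.bar β * b) ≠ 1 := by
  obtain ⟨α, hα⟩ := exists_nm K ht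
  obtain ⟨β, hβ⟩ := exists_nm K (bar_one_sub K ht)
  obtain ⟨ζ, hζ, hζ'⟩ := exists_norm_one_ne_bar K hq
  have hβζ : nm K (β * ζ) = 1 - t := by rw [nm_mul, hζ, mul_one, hβ]
  by_contra hc
  push Not at hc
  have h1 := hc α β (by rw [hα, hβ]; ring) hα
  have h2 := hc α (β * ζ) (by rw [hα, hβζ]; ring) hα
  set κ := α * a * β * K.bar b with hκ
  simp only [nm] at h1 h2 hα hβ hβζ ha hb
  simp only [map_sub, map_mul, K.bar_bar] at h1 h2 hβζ
  have k1 : κ + K.bar κ = 0 := by
    simp only [hκ, map_mul, K.bar_bar]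
    linear_combination -h1 + (a * K.bar a) * hα + t * ha + (b * K.bar b) * hβ + (1 - t) * hb
  have k2 : κ * ζ + K.bar κ * K.bar ζ = 0 := by
    simp only [hκ, map_mul, K.bar_bar]
    linear_combination -h2 + (a * K.bar a) * hα + t * ha + (b * K.bar b) * hβζ + (1 - t) * hb
  have hκ0 : κ ≠ 0 := by
    have n0 : ∀ {x : F}, x * K.bar x ≠ 0 → x ≠ 0 := fun h e => h (by rw [e, zero_mul])
    exact mul_ne_zero (mul_ne_zero (mul_ne_zero (n0 (by rwa [hα]))
      (n0 (by rw [ha]; exact one_ne_zero))) (n0 (by rw [hβ]; exact sub_ne_zero.2 (Ne.symm ht1))))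
      ((map_ne_zero K.bar).2 (n0 (by rw [hb]; exact one_ne_zero)))
  refine hζ' ?_
  have : κ * (ζ - K.bar ζ) = 0 := by linear_combination k2 - K.bar ζ * k1
  exact (sub_eq_zero.1 ((mul_eq_zero.1 this).resolve_left hκ0)).symm

include K in
/-- A vector with nonzero norm is moved onto an axis by the elements fixing the smaller indices. -/
theorem to_axis (hq : 4 ≤ q) {j : ℕ} {v : Fin n → F} (hv : v ∈ W j) (hne : H v v ≠ 0) :
    j < n ∧ ∃ g ∈ (Fix j : Subgroup (SU n F q)), ∃ c : F, app g (c • bv j) = v ∧ nm K c = H v v := by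
  set S := Unitary.space (n := n) K
  have hj : j < n := by
    by_contra h
    apply hne
    have : v = 0 := ext_cd fun i hi => by rw [mem_W.1 hv i (by omega)]; simp [cd]
    rw [this]; exact S.zero_left _
  refine ⟨hj, ?_⟩
  by_cases h2 : j + 2 ≤ n
  · obtain ⟨c, hc⟩ := exists_nm K (s := H v v) (h_swap K v v).symm
    have hc0 : c ≠ 0 := fun e => hne (by rw [← hc, e, nm_zero])
    have hv1 : H (c⁻¹ • v) (c⁻¹ • v) = 1 := by
      show S.h (c⁻¹ • v) (c⁻¹ • v) = 1
      rw [S.smul_left, S.smul_right]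
      show c⁻¹ * (K.bar c⁻¹ * H v v) = 1
      rw [← hc, nm, map_inv₀]
      field_simp [(map_ne_zero K.bar).2 hc0]
    obtain ⟨g, hg, hgv⟩ := exists_move_sphere K h2 (fun h => by omega) ((W j).smul_mem _ hv) hv1
    refine ⟨g, fun i hi => ?_, c, ?_, hc⟩
    · have hin : i < n := by omega
      rw [bv, dif_pos hin]; exact gen_fix_W K hg hi
    · rw [bv, dif_pos hj, app_smul, hgv, smul_smul, mul_inv_cancel₀ hc0, one_smul]
  · have hvj : v = cd v j • bv j := ext_cd fun i hi => by
      rw [cd_smul, cd_bv]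
      by_cases h : i = j
      · subst h; simp [hi]
      · rw [if_neg (fun e => h e.1), mul_zero]; exact mem_W.1 hv i (by omega)
    refine ⟨1, one_mem _, cd v j, by rw [app_one]; exact hvj.symm, ?_⟩
    conv_rhs => rw [hvj]
    show _ = S.h (cd v j • bv j) (cd v j • bv j)
    rw [S.smul_left, S.smul_right]
    show _ = cd v j * (K.bar (cd v j) * H (bv j) (bv j))
    rw [h_bv K, cd_bv, if_pos ⟨rfl, hj⟩, mul_one, nm]

end CfsgLib.Classical.Phan
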