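import Cfsg.Agent.Lib.Classical.Phan.Basic

/-!
# Systems of subgroups over the coordinate blocks: the section of cosets
-/

set_option autoImplicit false
set_option linter.unusedSectionVars false

namespace CfsgLib.Classical.Phan

open Matrix Cfsg
open CfsgLib.Classical.Herm
open CfsgLib.ClassicalAut (Unitary.Conj Unitary.space Unitary.herm_apply)

variable {F : Type*} [Field F] [Finite F] {q : ℕ} (K : Unitary.Conj F q) {n : ℕ}

local notation "H" => hermForm n F q

/-! ### More on coordinates -/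

include K in
theorem norm_split (v : Fin n → F) {i : ℕ} (hi : i < n) :
    H v v = nm K (cd v i) + H (v - cd v i • bv i) (v - cd v i • bv i) := by
  set S := Unitary.space (n := n) K
  have e1 : S.h v (bv i) = cd v i := h_bv K v i
  have e2 : S.h (bv i) v = K.bar (cd v i) := by
    show H (bv i) v = _
    rw [h_swap K v (bv i), h_bv K]
  have e3 : S.h (bv i) (bv i) = 1 := by
    show H (bv i) (bv i) = _
    rw [h_bv K, cd_bv, if_pos ⟨rfl, hi⟩]
  show S.h v v = _ + S.h _ _
  rw [S.sub_left, S.sub_right, S.sub_right, S.smul_left, S.smul_left, S.smul_right, S.smul_right,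
    e1, e2, e3, nm]
  show _ = _
  simp only [S, Unitary.space]
  ring

include K in
theorem norm_range {k : ℕ} (m : ℕ) {v : Fin n → F} (hv : v ∈ W k)
    (hs : ∀ i, k + m ≤ i → cd v i = 0) :
    H v v = ∑ i ∈ Finset.range m, nm K (cd v (k + i)) := by
  induction m generalizing k v with
  | zero =>
    have : v = 0 := ext_cd fun i _ => by
      rw [show cd (0 : Fin n → F) i = 0 by simp [cd]]
      by_cases h : i < k
      · exact mem_W.1 hv i h
      · exact hs i (by omega)
    rw [this, Finset.sum_range_zero]; exact (Unitary.space (n := n) K).zero_left _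
  | succ m ih =>
    rw [Finset.sum_range_succ', add_zero]
    by_cases hk : k < n
    swap
    · have : v = 0 := ext_cd fun i hi => by
        rw [show cd (0 : Fin n → F) i = 0 by simp [cd]]; exact mem_W.1 hv i (by omega)
      rw [this]
      simp [cd, nm_zero]
      exact (Unitary.space (n := n) K).zero_left _
    rw [norm_split K v hk, add_comm]
    congr 1
    rw [ih (k := k + 1)]
    · refine Finset.sum_congr rfl fun i _ => ?_
      rw [cd_sub, cd_smul, cd_bv, if_neg (by omega), mul_zero, sub_zero,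
        show k + 1 + i = k + (i + 1) by omega]
    · refine mem_W.2 fun i hi => ?_
      rw [cd_sub, cd_smul, cd_bv]
      by_cases h : i = k
      · subst h; rw [if_pos ⟨rfl, hk⟩, mul_one, sub_self]
      · rw [if_neg (fun e => h e.1), mul_zero, sub_zero]; exact mem_W.1 hv i (by omega)
    · intro i hi
      rw [cd_sub, cd_smul, cd_bv, if_neg (by omega), mul_zero, sub_zero]
      exact hs i (by omega)

/-! ### Systems -/

/-- Subgroups over the coordinate blocks, pairwise glued. -/
structure Sys (G : Type*) [Group G] (n : ℕ) where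
  /-- the projection -/
  π : G →* SU n F q
  /-- the rank one subgroups -/
  U : ℕ → Subgroup G
  big : 4 ≤ q
  mapU : ∀ j, j + 1 < n → (U j).map π = Blk j (j + 2)
  injU : ∀ j l, j + 1 < n → l + 1 < n → Set.InjOn π (↑(U j ⊔ U l) : Set G)

variable {G : Type*} [Group G] (S : Sys (F := F) (q := q) G n)

namespace Sys

/-- The subgroup on the indices at least `k`. -/
def L (k : ℕ) : Subgroup G := ⨆ (j) (_ : k ≤ j ∧ j + 1 < n), S.U j

theorem U_le_L {k j : ℕ} (h : k ≤ j) (h' : j + 1 < n) : S.U j ≤ S.L k :=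
  le_iSup₂ (f := fun j (_ : k ≤ j ∧ j + 1 < n) => S.U j) j ⟨h, h'⟩

theorem L_anti {j k : ℕ} (h : j ≤ k) : S.L k ≤ S.L j :=
  iSup₂_le fun _ hl => S.U_le_L (h.trans hl.1) hl.2

theorem mem_Blk {j : ℕ} (hj : j + 1 < n) {x : G} (hx : x ∈ S.U j) : S.π x ∈ Blk j (j + 2) :=
  S.mapU j hj ▸ Subgroup.mem_map_of_mem _ hx

theorem lift {j : ℕ} (hj : j + 1 < n) {g : SU n F q} (hg : g ∈ Blk j (j + 2)) :
    ∃ x ∈ S.U j, S.π x = g := by
  rw [← S.mapU j hj] at hg; exact hg

theorem lift_el {j : ℕ} (hj : j + 1 < n) {α β : F} (h : nm K α + nm K β = 1) :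
    ∃ x ∈ S.U j, IsEl K (S.π x) j α β := by
  obtain ⟨g, hg⟩ := exists_el K hj h
  obtain ⟨x, hx, rfl⟩ := S.lift hj hg.1
  exact ⟨x, hx, hg⟩

theorem mem_Fix {k : ℕ} {x : G} (hx : x ∈ S.L k) : S.π x ∈ Fix k := by
  have : S.L k ≤ (Fix k).comap S.π := iSup₂_le fun j hj y hy => Blk_le_Fix hj.1 (S.mem_Blk hj.2 hy)
  exact this hx

theorem pair_Blk {j : ℕ} (hj : j + 2 < n) {x : G} (hx : x ∈ S.U j ⊔ S.U (j + 1)) :
    S.π x ∈ Blk j (j + 3) := by
  have : S.U j ⊔ S.U (j + 1) ≤ (Blk j (j + 3)).comap S.π :=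
    sup_le (fun y hy => Blk_mono le_rfl (by omega) (S.mem_Blk (by omega) hy))
      (fun y hy => Blk_mono (by omega) (by omega) (S.mem_Blk (by omega) hy))
  exact this hx

include K in
theorem three_mem {j : ℕ} (hj : j + 2 < n) {x : G} (hx : x ∈ S.U j ⊔ S.U (j + 1))
    (h : app (S.π x) (bv j : Fin n → F) = bv j) : x ∈ S.U (j + 1) := by
  have hB : S.π x ∈ Blk (j + 1) (j + 1 + 2) := fun i hi => by
    by_cases e : i = j
    · rw [e]; exact h
    · exact S.pair_Blk hj hx i (by omega)
  obtain ⟨y, hy, hyx⟩ := S.lift (by omega) hB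
  rw [← S.injU j (j + 1) (by omega) (by omega) (SetLike.mem_coe.2 (Subgroup.mem_sup_right hy))
    (SetLike.mem_coe.2 hx) hyx]
  exact hy

include K in
theorem three_mem' {j : ℕ} (hj : j + 2 < n) {x : G} (hx : x ∈ S.U j ⊔ S.U (j + 1))
    (h : app (S.π x) (bv (j + 2) : Fin n → F) = bv (j + 2)) : x ∈ S.U j := by
  have hB : S.π x ∈ Blk j (j + 2) := fun i hi => by
    by_cases e : i = j + 2
    · rw [e]; exact h
    · exact S.pair_Blk hj hx i (by omega)
  obtain ⟨y, hy, hyx⟩ := S.lift (by omega) hB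
  rw [← S.injU j (j + 1) (by omega) (by omega) (SetLike.mem_coe.2 (Subgroup.mem_sup_left hy))
    (SetLike.mem_coe.2 hx) hyx]
  exact hy

include K in
theorem comm {k : ℕ} (hk : k + 1 < n) {x : G} (hx : x ∈ S.U k) {y : G} (hy : y ∈ S.L (k + 2)) :
    y * x = x * y := by
  have : S.L (k + 2) ≤ Subgroup.centralizer {x} := iSup₂_le fun j hj z hz => by
    rw [Subgroup.mem_centralizer_singleton_iff]
    refine S.injU k j hk hj.2 (SetLike.mem_coe.2 (mul_mem (Subgroup.mem_sup_right hz) (Subgroup.mem_sup_left hx)))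
      (SetLike.mem_coe.2 (mul_mem (Subgroup.mem_sup_left hx) (Subgroup.mem_sup_right hz))) ?_
    rw [map_mul, map_mul]
    exact (comm_Blk_Fix K le_rfl (S.mem_Blk hk hx) (Blk_le_Fix hj.1 (S.mem_Blk hj.2 hz))).symm
  exact Subgroup.mem_centralizer_singleton_iff.1 (this hy)

/-- The coordinates split off by an element of a rank one subgroup. -/
theorem el_move {j : ℕ} {g : SU n F q} {α β b b' : F} {v w : Fin n → F} (hg : IsEl K g j α β)
    (h1 : α * cd v j - K.bar β * cd v (j + 1) = b) (h2 : β * cd v j + K.bar α * cd v (j + 1) = b')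
    (hb : cd w j = b) (hb' : cd w (j + 1) = b')
    (hrest : ∀ i, i < n → i ≠ j → i ≠ j + 1 → cd w i = cd v i) : app g v = w := by
  refine ext_cd fun i hi => ?_
  by_cases e1 : i = j
  · subst e1; rw [(hg.2.2 v).1, h1, hb]
  by_cases e2 : i = j + 1
  · subst e2; rw [(hg.2.2 v).2, h2, hb']
  rw [hg.cd_ne K v e1 e2, hrest i hi e1 e2]

theorem el_app {j : ℕ} {g : SU n F q} {α β : F} (hg : IsEl K g j α β) :
    app g (bv j : Fin n → F) = α • bv j + β • bv (j + 1) := hg.2.1

/-! ### Transitivity -/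

include K in
/-- The subgroup on the indices at least `k` covers the stabilizer of the smaller ones. -/
theorem exists_rep {k : ℕ} (hk : k + 1 < n)
    (ih : ∀ g ∈ (Fix (k + 1) : Subgroup (SU n F q)), ∃ x ∈ S.L (k + 1), S.π x = g)
    {v : Fin n → F} (hv : v ∈ W k) (h1 : H v v = 1) (hne : nm K (cd v k) ≠ 1) :
    ∃ l ∈ S.L (k + 1), ∃ u ∈ S.U k, app (S.π (l * u)) (bv k : Fin n → F) = v := by
  set r := v - cd v k • bv k with hr
  have hrW : r ∈ W (k + 1) := mem_W.2 fun i hi => by
    rw [hr, cd_sub, cd_smul, cd_bv]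
    by_cases h : i = k
    · subst h; rw [if_pos ⟨rfl, by omega⟩, mul_one, sub_self]
    · rw [if_neg (fun e => h e.1), mul_zero, sub_zero]; exact mem_W.1 hv i (by omega)
  have hrn : H r r = 1 - nm K (cd v k) := by
    rw [← h1, norm_split K v (show k < n by omega), ← hr]; ring
  obtain ⟨-, g, hg, c, hgc, hc⟩ := to_axis K S.big hrW (by rw [hrn]; exact sub_ne_zero.2 (Ne.symm hne))
  obtain ⟨l, hl, rfl⟩ := ih g hg
  obtain ⟨u, hu, hue⟩ := S.lift_el K hk (α := cd v k) (β := c) (by rw [hc, hrn]; ring)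
  refine ⟨l, hl, u, hu, ?_⟩
  rw [map_mul, app_mul, hue.2.1, app_add, app_smul, hgc, S.mem_Fix hl k (by omega), hr]
  abel

include K in
theorem surj (k : ℕ) : ∀ g ∈ (Fix k : Subgroup (SU n F q)), ∃ x ∈ S.L k, S.π x = g := by
  induction hm : n - k generalizing k with
  | zero =>
    intro g hg
    exact ⟨1, one_mem _, by rw [map_one, Fix_top K (by omega) hg]⟩
  | succ m ih =>
    intro g hg
    by_cases hk : k + 1 < n
    swap
    · exact ⟨1, one_mem _, by rw [map_one, Fix_top K (by omega) hg]⟩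
    have ih' := ih (k + 1) (by omega)
    set v := app g (bv k : Fin n → F) with hvdef
    have hv : v ∈ W k := Fix_app_W K hg (bv_mem_W le_rfl)
    have h1 : H v v = 1 := by rw [hvdef, h_app, h_bv K, cd_bv, if_pos ⟨rfl, by omega⟩]
    obtain ⟨α, β, hαβ, hval⟩ := exists_el_valid K S.big (cd v k) (cd v (k + 1))
    obtain ⟨x, hx, hxe⟩ := S.lift_el K hk hαβ
    obtain ⟨l, hl, u, hu, hlu⟩ := S.exists_rep K hk ih'
      (v := app (S.π x) v) (Fix_app_W K (S.mem_Fix (S.U_le_L le_rfl hk hx)) hv)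
      (by rw [h_app, h1]) (by rw [(hxe.2.2 v).1]; exact hval)
    have hyL : x⁻¹ * (l * u) ∈ S.L k := mul_mem (inv_mem (S.U_le_L le_rfl hk hx))
      (mul_mem (S.L_anti (by omega) hl) (S.U_le_L le_rfl hk hu))
    set y := x⁻¹ * (l * u) with hy
    have hye : app (S.π y) (bv k : Fin n → F) = v := by
      rw [hy, map_mul, app_mul, hlu, map_inv, app_inv]
    have hF : (S.π y)⁻¹ * g ∈ Fix (k + 1) := fun i hi => by
      by_cases e : i = k
      · subst e; rw [app_mul, ← hvdef, ← hye, app_inv]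
      · exact mul_mem (inv_mem (S.mem_Fix hyL)) hg i (by omega)
    obtain ⟨z, hz, hze⟩ := ih' _ hF
    exact ⟨y * z, mul_mem hyL (S.L_anti (by omega) hz), by rw [map_mul, hze, mul_inv_cancel_left]⟩

end Sys

end CfsgLib.Classical.Phan
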