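import Cfsg.Agent.Lib.Classical.Phan.AutTwo
import Cfsg.Agent.Lib.Classical.Phan.Sys

/-!
# Coordinate embeddings and diagonal-field twists of special unitary groups
-/

set_option autoImplicit false
set_option linter.unusedSectionVars false

namespace CfsgLib.Classical.Phan

open Matrix Cfsg
open CfsgLib.Classical.Herm
open CfsgLib.ClassicalAut (Unitary.Conj Unitary.space Unitary.herm_apply)

variable {F : Type*} [Field F] [Finite F] {q : ℕ} (K : Unitary.Conj F q)

/-- The window `j, …, j + m - 1` and its complement. -/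
def winEquiv (N m j : ℕ) (h : j + m ≤ N) :
    Fin N ≃ Fin m ⊕ {i : Fin N // ¬ (j ≤ (i : ℕ) ∧ (i : ℕ) < j + m)} where
  toFun i := if hi : j ≤ (i : ℕ) ∧ (i : ℕ) < j + m then .inl ⟨i - j, by omega⟩ else .inr ⟨i, hi⟩
  invFun := Sum.elim (fun a => ⟨j + a, by omega⟩) (fun r => r.1)
  left_inv i := by
    dsimp only
    split_ifs with hi
    · exact Fin.ext (Nat.add_sub_cancel' hi.1)
    · rfl
  right_inv x := by
    rcases x with a | r
    · dsimp only [Sum.elim_inl]
      split_ifs with hi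
      · exact congrArg Sum.inl (Fin.ext (Nat.add_sub_cancel_left j a))
      · exact absurd ⟨Nat.le_add_right j a, by have := a.2; omega⟩ hi
    · dsimp only [Sum.elim_inr]
      split_ifs with hi
      · exact absurd hi r.2
      · rfl

section Window

variable {N m j : ℕ} (h : j + m ≤ N)

/-- The block matrix of a window. -/
def winMat (A : Matrix (Fin m) (Fin m) F) : Matrix (Fin N) (Fin N) F :=
  (Matrix.fromBlocks A 0 0 1).submatrix (winEquiv N m j h) (winEquiv N m j h)

theorem winMat_mul (A B : Matrix (Fin m) (Fin m) F) :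
    winMat h (A * B) = winMat h A * winMat h B := by
  rw [winMat, winMat, winMat, Matrix.submatrix_mul_equiv, Matrix.fromBlocks_multiply]
  simp

theorem winMat_one : winMat h (1 : Matrix (Fin m) (Fin m) F) = 1 := by
  rw [winMat, Matrix.fromBlocks_one, Matrix.submatrix_one_equiv]

theorem det_winMat (A : Matrix (Fin m) (Fin m) F) : (winMat h A).det = A.det := by
  rw [winMat, Matrix.det_submatrix_equiv_self, Matrix.det_fromBlocks_zero₂₁, Matrix.det_one, mul_one]

theorem winMat_mulVec (A : Matrix (Fin m) (Fin m) F) (v : Fin N → F) :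
    winMat h A *ᵥ v = Sum.elim (A *ᵥ fun a => v ((winEquiv N m j h).symm (.inl a)))
      (fun r => v r.1) ∘ (winEquiv N m j h) := by
  rw [winMat, Matrix.submatrix_mulVec_equiv, Matrix.fromBlocks_mulVec]
  simp [Function.comp_def, winEquiv]

include K in
theorem winMat_mem (A : SU m F q) :
    (⟨winMat h (mat A), (det_winMat h _).trans A.1.det_coe⟩ : Matrix.SpecialLinearGroup (Fin N) F) ∈
      SU N F q := by
  intro u v
  show hermForm N F q (winMat h (mat A) *ᵥ u) (winMat h (mat A) *ᵥ v) = hermForm N F q u v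
  have hA := A.2 (fun a => u ((winEquiv N m j h).symm (.inl a))) (fun a => v ((winEquiv N m j h).symm (.inl a)))
  simp only [Unitary.herm_apply K] at hA ⊢
  rw [winMat_mulVec, winMat_mulVec, ← Equiv.sum_comp (winEquiv N m j h).symm,
    ← Equiv.sum_comp (winEquiv N m j h).symm (fun i => u i * K.bar (v i)), Fintype.sum_sum_type,
    Fintype.sum_sum_type]
  simp only [Function.comp_apply, Equiv.apply_symm_apply, Sum.elim_inl, Sum.elim_inr]
  congr 1

/-- The embedding on a window. -/
def emb : SU m F q →* SU N F q :=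
  MonoidHom.mk' (fun A => ⟨_, winMat_mem K h A⟩) fun A B =>
    Subtype.ext (Subtype.ext (winMat_mul h _ _))

theorem mat_emb (A : SU m F q) : mat (emb K h A) = winMat h (mat A) := rfl

theorem cd_emb (A : SU m F q) (v : Fin N → F) {a : ℕ} (ha : a < m) :
    cd (app (emb K h A) v) (j + a) = cd (app A (fun b : Fin m => cd v (j + b))) a := by
  have hN : j + a < N := by omega
  rw [cd, dif_pos hN, cd, dif_pos ha]
  show (winMat h (mat A) *ᵥ v) _ = (mat A *ᵥ _) _
  rw [winMat_mulVec]
  have e : winEquiv N m j h ⟨j + a, hN⟩ = .inl ⟨a, ha⟩ :=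
    (winEquiv N m j h).apply_eq_iff_eq_symm_apply.2 (Fin.ext rfl)
  simp only [Function.comp_apply, e, Sum.elim_inl]
  congr 2
  funext b
  rw [cd, dif_pos (by omega)]
  rfl

theorem cd_emb_out (A : SU m F q) (v : Fin N → F) {i : ℕ} (hi : i < j ∨ j + m ≤ i) :
    cd (app (emb K h A) v) i = cd v i := by
  unfold cd
  split_ifs with hN
  · show (winMat h (mat A) *ᵥ v) _ = _
    rw [winMat_mulVec]
    have e : winEquiv N m j h ⟨i, hN⟩ = .inr ⟨⟨i, hN⟩, fun c => by have := c.1; have := c.2; simp at *; omega⟩ := by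
      exact dif_neg _
    simp only [Function.comp_apply, e, Sum.elim_inr]
  · rfl

theorem emb_injective : Function.Injective (emb K h : SU m F q → SU N F q) := by
  intro A B e
  refine mat_ext (Matrix.ext fun a b => ?_)
  have := congrFun (congrFun (congrArg mat e) ((winEquiv N m j h).symm (.inl a))) ((winEquiv N m j h).symm (.inl b))
  simpa [mat_emb, winMat] using this

theorem emb_mem_Blk (A : SU m F q) : emb K h A ∈ Blk j (j + m) := fun i hi => by
  refine ext_cd fun l hl => ?_
  by_cases hlw : j ≤ l ∧ l < j + m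
  · obtain ⟨a, rfl⟩ : ∃ a, l = j + a := ⟨l - j, by omega⟩
    rw [cd_emb K h A _ (show a < m by omega)]
    have : (fun b : Fin m => cd (bv i : Fin N → F) (j + b)) = 0 := by
      funext b; rw [cd_bv, if_neg (by have := b.2; omega)]; rfl
    rw [this, app_zero', cd_bv, if_neg (by omega)]
    simp [cd]
  · rw [cd_emb_out K h A _ (by omega)]

theorem emb_emb {M i : ℕ} (h' : i + m ≤ M) {k : ℕ} (hk : k + M ≤ N) (hj : k + i + m ≤ N) (A : SU m F q) :
    emb K hk (emb K h' A) = emb K hj A := by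
  refine ext_app fun v => ext_cd fun l hl => ?_
  by_cases hlM : k ≤ l ∧ l < k + M
  · obtain ⟨c, rfl⟩ : ∃ c, l = k + c := ⟨l - k, by omega⟩
    rw [cd_emb K hk _ _ (show c < M by omega)]
    by_cases hci : i ≤ c ∧ c < i + m
    · obtain ⟨a, rfl⟩ : ∃ a, c = i + a := ⟨c - i, by omega⟩
      rw [cd_emb K h' _ _ (show a < m by omega), ← Nat.add_assoc, cd_emb K hj _ _ (show a < m by omega)]
      congr 2
      funext b
      have hb := b.2
      rw [cd, dif_pos (show i + (b : ℕ) < M by omega)]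
      exact congrArg (cd v) (Nat.add_assoc k i b).symm
    · rw [cd_emb_out K h' _ _ (by omega), cd, dif_pos (show c < M by omega),
        cd_emb_out K hj _ _ (by omega)]
  · rw [cd_emb_out K hk _ _ (by omega), cd_emb_out K hj _ _ (by omega)]

theorem IsEl.ext' {n l : ℕ} {g g' : SU n F q} {α β : F} (hg : IsEl K g l α β) (hg' : IsEl K g' l α β) :
    g = g' :=
  ext_app fun v => ext_cd fun i _ => by
    by_cases h1 : i = l
    · subst h1; rw [(hg.2.2 v).1, (hg'.2.2 v).1]
    by_cases h2 : i = l + 1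
    · subst h2; rw [(hg.2.2 v).2, (hg'.2.2 v).2]
    rw [hg.cd_ne K v h1 h2, hg'.cd_ne K v h1 h2]

theorem emb_two (h2 : j + 2 ≤ N) (A : SU 2 F q) :
    IsEl K (emb K h2 A) j (mat A 0 0) (mat A 1 0) := by
  have e := el_unique K (show j + 1 < N by omega) (emb_mem_Blk K h2 A)
  have c0 : cd (app (emb K h2 A) (bv j : Fin N → F)) j = mat A 0 0 ∧
      cd (app (emb K h2 A) (bv j : Fin N → F)) (j + 1) = mat A 1 0 := by
    have w : (fun b : Fin 2 => cd (bv j : Fin N → F) (j + b)) = (bv 0 : Fin 2 → F) := by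
      funext b
      rw [cd_bv, bv_apply]
      fin_cases b <;> simp [show j < N by omega]
    have e0 := cd_emb K h2 A (bv j) (a := 0) (by norm_num)
    have e1 := cd_emb K h2 A (bv j) (a := 1) (by norm_num)
    rw [w] at e0 e1
    rw [add_zero] at e0
    exact ⟨e0.trans (mat_apply A 0 0).symm, e1.trans (mat_apply A 1 0).symm⟩
  rwa [c0.1, c0.2] at e

theorem range_emb_two (h2 : j + 2 ≤ N) :
    (emb K h2 : SU 2 F q →* SU N F q).range = Blk j (j + 2) := by
  refine le_antisymm ?_ fun g hg => ?_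
  · rintro _ ⟨A, rfl⟩; exact emb_mem_Blk K h2 A
  have e := el_unique K (show j + 1 < N by omega) hg
  obtain ⟨A, hA0, hA1⟩ := exists_two K (norm_col K (show j + 1 < N by omega) hg)
  have e' := emb_two K h2 A
  rw [hA0, hA1] at e'
  exact ⟨A, IsEl.ext' K e' e⟩

end Window

/-! ### Twists -/

/-- Diagonal conjugation composed with a field automorphism, on matrices. -/
def twMat {n : ℕ} (d : Fin n → Fˣ) (τ : F ≃+* F) (A : Matrix (Fin n) (Fin n) F) :
    Matrix (Fin n) (Fin n) F := Matrix.of fun i k => (d i : F) * τ (A i k) * ((d k)⁻¹ : Fˣ)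

theorem twMat_eq {n : ℕ} (d : Fin n → Fˣ) (τ : F ≃+* F) (A : Matrix (Fin n) (Fin n) F) :
    twMat d τ A = Matrix.diagonal (fun i => (d i : F)) * A.map τ *
      Matrix.diagonal (fun i => (((d i)⁻¹ : Fˣ) : F)) := by
  ext i k; simp [twMat, Matrix.diagonal_mul, Matrix.mul_diagonal]

theorem twMat_det {n : ℕ} (d : Fin n → Fˣ) (τ : F ≃+* F) (A : Matrix (Fin n) (Fin n) F) :
    (twMat d τ A).det = τ A.det := by
  rw [twMat_eq, Matrix.det_mul, Matrix.det_mul, Matrix.det_diagonal, Matrix.det_diagonal,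
    RingEquiv.map_det, RingEquiv.mapMatrix_apply, mul_comm (∏ i, (d i : F)), mul_assoc,
    ← Finset.prod_mul_distrib]
  simp

theorem twMat_mul {n : ℕ} (d : Fin n → Fˣ) (τ : F ≃+* F) (A B : Matrix (Fin n) (Fin n) F) :
    twMat d τ (A * B) = twMat d τ A * twMat d τ B := by
  ext i k
  simp only [twMat, Matrix.of_apply, Matrix.mul_apply, map_sum, map_mul, Finset.mul_sum, Finset.sum_mul]
  refine Finset.sum_congr rfl fun l _ => ?_
  rw [show (d i : F) * τ (A i l) * ((d l)⁻¹ : Fˣ) * ((d l : F) * τ (B l k) * ((d k)⁻¹ : Fˣ)) =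
    (d i : F) * (τ (A i l) * τ (B l k)) * ((d k)⁻¹ : Fˣ) * ((((d l)⁻¹ : Fˣ) : F) * (d l : F)) by ring,
    Units.inv_mul, mul_one]

include K in
theorem tau_bar (τ : F ≃+* F) (x : F) : K.bar (τ x) = τ (K.bar x) := by
  rw [K.bar_apply, K.bar_apply, map_pow]

include K in
theorem twMat_mem {n : ℕ} (d : Fin n → Fˣ) (hd : ∀ i, nm K (d i : F) = 1) (τ : F ≃+* F) (A : SU n F q) :
    (⟨twMat d τ (mat A), by rw [twMat_det, A.1.det_coe, map_one]⟩ :
      Matrix.SpecialLinearGroup (Fin n) F) ∈ SU n F q := by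
  intro u v
  show hermForm n F q (twMat d τ (mat A) *ᵥ u) (twMat d τ (mat A) *ᵥ v) = hermForm n F q u v
  set u' : Fin n → F := fun k => τ.symm ((((d k)⁻¹ : Fˣ) : F) * u k)
  set v' : Fin n → F := fun k => τ.symm ((((d k)⁻¹ : Fˣ) : F) * v k)
  have hu : ∀ (w : Fin n → F) (i : Fin n), (twMat d τ (mat A) *ᵥ w) i =
      (d i : F) * τ ((mat A *ᵥ fun k => τ.symm ((((d k)⁻¹ : Fˣ) : F) * w k)) i) := by
    intro w i
    simp only [Matrix.mulVec, dotProduct, twMat, Matrix.of_apply, map_sum, map_mul,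
      RingEquiv.apply_symm_apply, Finset.mul_sum]
    exact Finset.sum_congr rfl fun k _ => by ring
  have hA := A.2 u' v'
  simp only [Unitary.herm_apply K] at hA ⊢
  have key : ∀ (i : Fin n) (x y : F), (d i : F) * τ x * K.bar ((d i : F) * τ y) = τ (x * K.bar y) :=
    fun i x y => by
      rw [map_mul, map_mul, tau_bar K, show (d i : F) * τ x * (K.bar (d i : F) * τ (K.bar y)) =
        nm K (d i : F) * (τ x * τ (K.bar y)) by rw [nm]; ring, hd i, one_mul]
  simp only [hu, key, ← map_sum]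
  erw [hA]
  rw [map_sum]
  refine Finset.sum_congr rfl fun i _ => ?_
  have hi : nm K (((d i)⁻¹ : Fˣ) : F) = 1 := by
    have h2 := nm_mul K (((d i)⁻¹ : Fˣ) : F) (d i : F)
    rw [Units.inv_mul, nm_one, hd i, mul_one] at h2
    exact h2.symm
  simp only [u', v', map_mul, ← tau_bar K τ, RingEquiv.apply_symm_apply]
  rw [nm] at hi
  linear_combination (u i * K.bar (v i)) * hi

/-- The twist. -/
def tw {n : ℕ} (d : Fin n → Fˣ) (hd : ∀ i, nm K (d i : F) = 1) (τ : F ≃+* F) :
    SU n F q →* SU n F q :=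
  MonoidHom.mk' (fun A => ⟨_, twMat_mem K d hd τ A⟩) fun A B =>
    Subtype.ext (Subtype.ext (twMat_mul d τ _ _))

theorem mat_tw {n : ℕ} (d : Fin n → Fˣ) (hd : ∀ i, nm K (d i : F) = 1) (τ : F ≃+* F) (A : SU n F q) :
    mat (tw K d hd τ A) = twMat d τ (mat A) := rfl

theorem tw_bijective {n : ℕ} (d : Fin n → Fˣ) (hd : ∀ i, nm K (d i : F) = 1) (τ : F ≃+* F) :
    Function.Bijective (tw K d hd τ : SU n F q → SU n F q) := by
  refine Finite.injective_iff_bijective.1 fun A B e => mat_ext (Matrix.ext fun i k => ?_)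
  have := congrFun (congrFun (congrArg mat e) i) k
  simpa [mat_tw, twMat] using this

theorem tw_emb {n : ℕ} {l : ℕ} (hl : l + 2 ≤ n) (d : Fin n → Fˣ) (hd : ∀ i, nm K (d i : F) = 1)
    (τ : F ≃+* F) (A : SU 2 F q) : ∃ B : SU 2 F q,
      tw K d hd τ (emb K hl A) = emb K hl B ∧ mat B 0 0 = τ (mat A 0 0) ∧
        mat B 1 0 = (d ⟨l + 1, by omega⟩ : F) * τ (mat A 1 0) * ((d ⟨l, by omega⟩)⁻¹ : Fˣ) := by
  have hg : tw K d hd τ (emb K hl A) ∈ (emb K hl : SU 2 F q →* SU n F q).range := by
    rw [range_emb_two K hl]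
    intro i hi
    unfold bv
    split_ifs with hin
    swap
    · exact app_zero' _
    show mat (tw K d hd τ (emb K hl A)) *ᵥ _ = _
    rw [mulVec_single_one]
    have hfix := emb_mem_Blk K hl A i hi
    rw [bv, dif_pos hin, app, mulVec_single_one] at hfix
    funext k
    have h2 := congrFun hfix k
    show twMat d τ (mat (emb K hl A)) k ⟨i, hin⟩ = _
    simp only [twMat, Matrix.of_apply]
    rw [show mat (emb K hl A) k ⟨i, hin⟩ = _ from h2, Pi.single_apply]
    split_ifs with hk
    · subst hk; rw [map_one, mul_one, Units.mul_inv]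
    · rw [map_zero, mul_zero, zero_mul]
  obtain ⟨B, hB⟩ := hg
  refine ⟨B, hB.symm, ?_, ?_⟩
  · have := congrFun (congrFun (congrArg mat hB) ⟨l, by omega⟩) ⟨l, by omega⟩
    rw [mat_tw, twMat, Matrix.of_apply, mat_apply, mat_apply] at this
    rw [((emb_two K hl B).2.2 _).1, ((emb_two K hl A).2.2 _).1, cd_bv, cd_bv,
      if_pos ⟨rfl, by omega⟩, if_neg (by simp), mul_one, mul_zero, sub_zero, mul_one, mul_zero,
      sub_zero] at this
    rw [this, mul_comm ((d _ : Fˣ) : F), mul_assoc, Units.mul_inv, mul_one]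
  · have := congrFun (congrFun (congrArg mat hB) ⟨l + 1, by omega⟩) ⟨l, by omega⟩
    rw [mat_tw, twMat, Matrix.of_apply, mat_apply, mat_apply] at this
    rw [((emb_two K hl B).2.2 _).2, ((emb_two K hl A).2.2 _).2, cd_bv, cd_bv,
      if_pos ⟨rfl, by omega⟩, if_neg (by simp), mul_one, mul_zero, add_zero, mul_one, mul_zero,
      add_zero] at this
    exact this

end CfsgLib.Classical.Phan
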