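import Cfsg.Agent.Lib.Classical.Phan.Section

/-!
# The section commutes with the first rank one subgroup
-/

set_option autoImplicit false
set_option linter.unusedSectionVars false

namespace CfsgLib.Classical.Phan

open Matrix Cfsg
open CfsgLib.Classical.Herm
open CfsgLib.ClassicalAut (Unitary.Conj Unitary.space Unitary.herm_apply)

variable {F : Type*} [Field F] [Finite F] {q : ℕ} (K : Unitary.Conj F q) {n : ℕ}

local notation "H" => hermForm n F q

variable {G : Type*} [Group G] (S : Sys (F := F) (q := q) G n) {k : ℕ}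

namespace Sys

variable (hk : k + 3 < n) (hP : Set.InjOn S.π (↑(S.L (k + 1)) : Set G))

/-- The part of a vector beyond the pair `k, k + 1`. -/
def tl (k : ℕ) (v : Fin n → F) : Fin n → F := v - cd v k • bv k - cd v (k + 1) • bv (k + 1)

theorem cd_tl (v : Fin n → F) {i : ℕ} (hi : i < n) :
    cd (tl k v) i = if i = k ∨ i = k + 1 then 0 else cd v i := by
  simp only [tl, cd_sub, cd_smul, cd_bv, hi, and_true]
  by_cases h1 : i = k
  · subst h1; simp
  by_cases h2 : i = k + 1
  · subst h2; simp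
  simp [h1, h2]

include hk in
theorem tl_mem {v : Fin n → F} (hv : v ∈ W k) : tl k v ∈ W (k + 2) :=
  mem_W.2 fun i hi => by
    rw [cd_tl v (by omega)]
    split_ifs with h
    · rfl
    · exact mem_W.1 hv i (by omega)

include K hk in
theorem norm_tl (v : Fin n → F) :
    H v v = nm K (cd v k) + nm K (cd v (k + 1)) + H (tl k v) (tl k v) := by
  rw [norm_split K v (show k < n by omega),
    norm_split K (v - cd v k • bv k) (show k + 1 < n by omega), cd_sub, cd_smul, cd_bv,
    if_neg (by omega), mul_zero, sub_zero, add_assoc]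
  rfl

include K hk in
theorem far_app {y : G} (hy : y ∈ S.L (k + 2)) (v : Fin n → F) :
    cd (app (S.π y) v) k = cd v k ∧ cd (app (S.π y) v) (k + 1) = cd v (k + 1) ∧
      tl k (app (S.π y) v) = app (S.π y) (tl k v) := by
  have h1 := S.app_L hy (v := v) (show k < k + 2 by omega) K
  have h2 := S.app_L hy (v := v) (show k + 1 < k + 2 by omega) K
  refine ⟨h1, h2, ?_⟩
  rw [tl, h1, h2, tl, app_sub', app_sub', app_smul, app_smul, S.mem_Fix hy k (by omega),
    S.mem_Fix hy (k + 1) (by omega)]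

include K hk hP in
theorem edge_nondeg {x : G} (hx : x ∈ S.U k) {v : Fin n → F} (hv : S.Val K k v)
    (hxv : S.Val K k (app (S.π x) v)) (h : nm K (cd v k) + nm K (cd v (k + 1)) ≠ 1) :
    S.Edge k x v := by
  obtain ⟨-, g, hg, c, hgc, -⟩ := to_axis K S.big (tl_mem hk hv.1.1) (j := k + 2)
    (fun e => h (by rw [← hv.1.2, norm_tl K hk v, e, add_zero]))
  obtain ⟨y, hy, rfl⟩ := S.surj K (k + 2) g hg
  refine S.edge_of_far K hk hP hx (inv_mem hy) hv hxv fun hxw => ?_
  have hw := S.val_app K (S.L_anti (Nat.le_succ _) (inv_mem hy)) hv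
  refine S.edge_triple K hk hP hx hw hxw fun i hi => ?_
  by_cases hin : i < n
  swap
  · simp [cd, hin]
  have e := cd_tl (k := k) (app (S.π y⁻¹) v) hin
  rw [if_neg (by omega), (S.far_app K hk (inv_mem hy) v).2.2, map_inv, ← hgc, app_inv, cd_smul,
    cd_bv, if_neg (by omega), mul_zero] at e
  rw [map_inv]; exact e.symm

/-! ### The sphere of a triple -/

/-- Supported on the four indices from `k`, with last coordinate `d`. -/
def Four (k : ℕ) (d : F) (v : Fin n → F) : Prop :=
  S.Sph k v ∧ (∀ i, k + 4 ≤ i → cd v i = 0) ∧ cd v (k + 3) = d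

include K hk in
theorem four_norm {d : F} {v : Fin n → F} (hv : S.Four k d v) :
    nm K (cd v k) + nm K (cd v (k + 1)) + nm K (cd v (k + 2)) = 1 - nm K d := by
  have h := norm_range K 4 hv.1.1 hv.2.1
  rw [hv.1.2, Finset.sum_range_succ, Finset.sum_range_succ, Finset.sum_range_succ,
    Finset.sum_range_one, add_zero, hv.2.2] at h
  linear_combination -h

include K hk in
theorem four_app {d : F} {v : Fin n → F} (hv : S.Four k d v) {z : G}
    (hz : z ∈ S.U k ⊔ S.U (k + 1)) : S.Four k d (app (S.π z) v) := by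
  have hB := S.pair_Blk (show k + 2 < n by omega) hz
  refine ⟨S.sph_app K ?_ hv.1, fun i hi => ?_, ?_⟩
  · exact sup_le (S.U_le_L le_rfl (by omega)) (S.U_le_L (Nat.le_succ _) (by omega)) hz
  · rw [Blk_cd K hB v (by omega)]; exact hv.2.1 i hi
  · rw [Blk_cd K hB v (by omega)]; exact hv.2.2

/-- Connected to the base point by elements of the triple, compatibly. -/
def Reach (k : ℕ) (u v : Fin n → F) : Prop :=
  ∃ y ∈ S.U k ⊔ S.U (k + 1), app (S.π y) u = v ∧ S.Edge k y u

theorem reach_step {u v : Fin n → F} {z : G} (hz : z ∈ S.U k ⊔ S.U (k + 1)) (he : S.Edge k z v)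
    (h : S.Reach k u (app (S.π z) v)) : S.Reach k u v := by
  obtain ⟨y, hy, hyu, e⟩ := h
  have hsy := he.symm
  rw [← hyu] at hsy
  exact ⟨z⁻¹ * y, mul_mem (inv_mem hz) hy, by rw [map_mul, app_mul, hyu, map_inv, app_inv],
    e.trans hsy⟩

/-- The base point. -/
def base (k : ℕ) (c d : F) : Fin n → F := c • bv (k + 2) + d • bv (k + 3)

include K hk in
theorem cd_base (c d : F) (i : ℕ) :
    cd (base k c d : Fin n → F) i = if i = k + 2 then c else if i = k + 3 then d else 0 := by
  simp only [base, cd_add, cd_smul, cd_bv]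
  by_cases h1 : i = k + 2
  · subst h1; simp [show k + 2 < n by omega]
  by_cases h2 : i = k + 3
  · subst h2; simp [hk]
  simp [h1, h2]

include K hk hP in
theorem base_stab {c d : F} (hc : c ≠ 0) (hu : S.Four k d (base k c d)) {z : G}
    (hz : z ∈ S.U k ⊔ S.U (k + 1)) (h : app (S.π z) (base k c d : Fin n → F) = base k c d) :
    z • S.C k (base k c d) = S.C k (base k c d) := by
  have hz3 : app (S.π z) (bv (k + 3) : Fin n → F) = bv (k + 3) :=
    S.pair_Blk (by omega) hz _ (by omega)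
  have hzU : z ∈ S.U k := by
    refine S.three_mem' K (by omega) hz ?_
    simp only [base, app_add, app_smul, hz3, add_left_inj] at h
    have := congrArg (fun x => c⁻¹ • x) h
    simpa only [smul_smul, inv_mul_cancel₀ hc, one_smul] using this
  have hv : S.Val K k (base k c d) := ⟨hu.1, by
    rw [cd_base K hk, if_neg (by omega), if_neg (by omega), nm_zero]; exact zero_ne_one⟩
  have he := S.edge_nondeg K hk hP hzU hv (by rw [h]; exact hv)
    (by simp [cd_base K hk, nm_zero])
  rw [Edge, h] at he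
  exact he

include K hk hP in
/-- Two connected points are joined compatibly by any element of the triple. -/
theorem edge_of_reach {c d : F} (hc : c ≠ 0) (hu : S.Four k d (base k c d)) {v : Fin n → F} {x : G}
    (hx : x ∈ S.U k ⊔ S.U (k + 1)) (h1 : S.Reach k (base k c d) v)
    (h2 : S.Reach k (base k c d) (app (S.π x) v)) : S.Edge k x v := by
  obtain ⟨y, hy, hyu, e⟩ := h1
  obtain ⟨y', hy', hyu', e'⟩ := h2
  have hst := S.base_stab K hk hP hc hu (mul_mem (inv_mem hy') (mul_mem hx hy))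
    (by rw [map_mul, map_mul, app_mul, app_mul, hyu, ← hyu', map_inv, app_inv])
  rw [mul_smul, mul_smul, inv_smul_eq_iff] at hst
  unfold Edge at *
  rw [hyu] at e
  rw [hyu'] at e'
  rw [← e, hst, e']

include K hk hP in
theorem reach_gen {c d : F} (hc : c ≠ 0) (hcd : nm K c + nm K d = 1) {v : Fin n → F}
    (hv : S.Four k d v) (hne : nm K (cd v k) ≠ 1) (hT : nm K (cd v k) ≠ nm K c) :
    S.Reach k (base k c d) v := by
  have hn := S.four_norm K hk hv
  set a := cd v k with ha
  set b := cd v (k + 1)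
  set c' := cd v (k + 2)
  obtain ⟨t, htb, ht1, ht2⟩ := exists_fixed_avoid K S.big (1 - nm K a) (-nm K a)
  obtain ⟨b1, hb1⟩ := exists_nm K htb
  obtain ⟨c1, hc1⟩ := exists_nm K (s := nm K c - nm K a - t)
    (by rw [map_sub, map_sub, bar_nm, bar_nm, htb])
  obtain ⟨α, β, h1, h2, h3⟩ := exists_el_move K (b := b) (c := c') (b' := b1) (c' := c1)
    (fun e => hT (by linear_combination hn - hcd - e))
    (by rw [hb1, hc1]; linear_combination -hn + hcd)
  obtain ⟨z1, hz1, hz1e⟩ := S.lift_el K (show k + 1 + 1 < n by omega) h1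
  have hz1P : z1 ∈ S.L (k + 1) := S.U_le_L le_rfl (by omega) hz1
  have hval : S.Val K k v := ⟨hv.1, hne⟩
  refine S.reach_step (Subgroup.mem_sup_right hz1) (S.edge_P K hk hP hz1P hval) ?_
  set v1 := app (S.π z1) v with hv1def
  have hv1 := S.four_app K hk hv (Subgroup.mem_sup_right hz1)
  have hv1val := S.val_app K hz1P hval
  have e1 : cd v1 k = a := S.app_L hz1P (Nat.lt_succ_self k) K
  have e2 : cd v1 (k + 1) = b1 := (hz1e.2.2 v).1.trans h2
  have e3 : cd v1 (k + 2) = c1 := (hz1e.2.2 v).2.trans h3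
  have hab : nm K a + nm K b1 ≠ 0 := fun e => ht2 (by linear_combination e - hb1)
  obtain ⟨α', β', g1, g2⟩ := exists_el_zero K hab
  obtain ⟨z2, hz2, hz2e⟩ := S.lift_el K (show k + 1 < n by omega) g1
  set v2 := app (S.π z2) v1 with hv2def
  have hv2 := S.four_app K hk hv1 (Subgroup.mem_sup_left hz2)
  have f1 : cd v2 k = 0 := by rw [hv2def, (hz2e.2.2 v1).1, e1, e2, g2]
  have hv2val : S.Val K k v2 := ⟨hv2.1, by rw [f1, nm_zero]; exact zero_ne_one⟩
  refine S.reach_step (Subgroup.mem_sup_left hz2) (S.edge_nondeg K hk hP hz2 hv1val hv2val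
    (by rw [e1, e2, hb1]; exact fun e => ht1 (by linear_combination e))) ?_
  have hn2 := S.four_norm K hk hv2
  rw [f1, nm_zero, zero_add] at hn2
  obtain ⟨α'', β'', k1, k2, k3⟩ := exists_el_move K (b := cd v2 (k + 1)) (c := cd v2 (k + 2))
    (b' := 0) (c' := c) (fun e => hc ((nm_eq_zero K).1 (by linear_combination hcd - hn2 + e)))
    (by rw [nm_zero]; linear_combination hcd - hn2)
  obtain ⟨z3, hz3, hz3e⟩ := S.lift_el K (show k + 1 + 1 < n by omega) k1
  refine S.reach_step (Subgroup.mem_sup_right hz3)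
    (S.edge_P K hk hP (S.U_le_L le_rfl (by omega) hz3) hv2val) ?_
  have : app (S.π z3) v2 = base k c d := by
    refine el_move K hz3e k2 k3 ?_ ?_ fun i hi i1 i2 => ?_
    · rw [cd_base K hk, if_neg (by omega), if_neg (by omega)]
    · rw [cd_base K hk, if_pos rfl]
    rw [cd_base K hk, if_neg i2]
    by_cases h : i = k + 3
    · subst h; rw [if_pos rfl]; exact hv2.2.2.symm
    rw [if_neg h]
    by_cases h' : i = k
    · subst h'; exact f1.symm
    by_cases h'' : i < k
    · exact (mem_W.1 hv2.1.1 i h'').symm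
    · exact (hv2.2.1 i (by omega)).symm
  rw [this]
  exact ⟨1, one_mem _, by rw [map_one, app_one], by rw [Edge, map_one, app_one, one_smul]⟩

include K hk hP in
/-- The points with degenerate tail are connected as well. -/
theorem reach_iso {c d : F} (hc : c ≠ 0) (hcd : nm K c + nm K d = 1) (hd : nm K d ≠ 0)
    {v : Fin n → F} (hv : S.Four k d v) (hne : nm K (cd v k) ≠ 1)
    (hs : nm K (cd v k) + nm K (cd v (k + 1)) = 1) : S.Reach k (base k c d) v := by
  by_cases hT : nm K (cd v k) = nm K c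
  swap
  · exact S.reach_gen K hk hP hc hcd hv hne hT
  have hn := S.four_norm K hk hv
  set a := cd v k
  set b := cd v (k + 1)
  set c' := cd v (k + 2)
  have hb : nm K b = nm K d := by linear_combination hs - hT - hcd
  have hbc : nm K b + nm K c' = 0 := by linear_combination hn - hT - hcd
  have hc' : c' ≠ 0 := fun e => hd (by rw [e, nm_zero, add_zero, hb] at hbc; exact hbc)
  have hr : nm K c ≠ 0 := fun e => hc ((nm_eq_zero K).1 e)
  obtain ⟨ν, hν, hν0, hν1, hν3⟩ : ∃ ν : F, K.bar ν = ν ∧ ν ≠ 0 ∧ ν * ν ≠ 1 ∧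
      (ν * ν = -1 → (3 : F) = 0 → False) := by
    by_cases h3 : (3 : F) = 0
    · obtain ⟨ν, h1, h2, h4, h5⟩ := exists_fixed_four_ne K S.big h3
      exact ⟨ν, h1, h2, h4, fun e _ => h5 e⟩
    · obtain ⟨ν, h1, h2, h4⟩ := exists_fixed_sq_ne K S.big
      exact ⟨ν, h1, h2, h4, fun _ e => h3 e⟩
  obtain ⟨α, β, h1, h2, h3⟩ := exists_el_scale K hbc hc' hν hν0
  obtain ⟨z1, hz1, hz1e⟩ := S.lift_el K (show k + 1 + 1 < n by omega) h1
  have hz1P : z1 ∈ S.L (k + 1) := S.U_le_L le_rfl (by omega) hz1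
  have hval : S.Val K k v := ⟨hv.1, hne⟩
  refine S.reach_step (Subgroup.mem_sup_right hz1) (S.edge_P K hk hP hz1P hval) ?_
  set v1 := app (S.π z1) v with hv1def
  have hv1 := S.four_app K hk hv (Subgroup.mem_sup_right hz1)
  have hv1val := S.val_app K hz1P hval
  have e1 : cd v1 k = a := S.app_L hz1P (Nat.lt_succ_self k) K
  have e2 : nm K (cd v1 (k + 1)) = ν * ν * nm K d := by
    rw [(hz1e.2.2 v).1.trans h2, nm_mul, nm_fixed K hν, hb]
  have hs1 : nm K (cd v1 k) + nm K (cd v1 (k + 1)) ≠ 1 := by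
    rw [e1, e2, hT]
    intro e
    have : (ν * ν - 1) * nm K d = 0 := by linear_combination e - hcd
    exact hd ((mul_eq_zero.1 this).resolve_left (sub_ne_zero.2 hν1))
  by_cases hs0 : nm K (cd v1 k) + nm K (cd v1 (k + 1)) = 0
  · have hb1 : cd v1 (k + 1) ≠ 0 := fun e => by
      rw [e, nm_zero] at e2
      exact mul_ne_zero (mul_ne_zero hν0 hν0) hd e2.symm
    obtain ⟨μ, hμ, hμ0, hμ1, hμr⟩ : ∃ μ : F, K.bar μ = μ ∧ μ ≠ 0 ∧ μ * μ ≠ 1 ∧
        μ * μ * nm K c ≠ 1 := by
      by_cases e : ν * ν * nm K c = 1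
      swap
      · exact ⟨ν, hν, hν0, hν1, e⟩
      refine ⟨ν⁻¹, by rw [map_inv₀, hν], inv_ne_zero hν0,
        fun h => hν1 (inv_injective (by rw [mul_inv, inv_one]; exact h)), fun h => ?_⟩
      have hcν : nm K c = ν * ν := by field_simp at h; linear_combination h
      rw [e1, e2, hT] at hs0
      rw [hcν] at e
      have h4 : ν * ν = -1 :=
        (mul_self_eq_one_iff.1 e).resolve_left hν1
      refine hν3 h4 ?_
      rw [hcν, show nm K d = 1 - ν * ν by linear_combination hcd - hcν, h4] at hs0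
      linear_combination -hs0
    obtain ⟨α', β', g1, g2, -⟩ := exists_el_scale K hs0 hb1 hμ hμ0
    obtain ⟨z2, hz2, hz2e⟩ := S.lift_el K (show k + 1 < n by omega) g1
    have f1 : nm K (cd (app (S.π z2) v1) k) = μ * μ * nm K c := by
      rw [(hz2e.2.2 v1).1, g2, nm_mul, nm_fixed K hμ, e1, hT]
    have hv2 := S.four_app K hk hv1 (Subgroup.mem_sup_left hz2)
    refine S.reach_step (Subgroup.mem_sup_left hz2) (S.edge_nondeg K hk hP hz2 hv1val
      ⟨hv2.1, by rwa [f1]⟩ hs1) (S.reach_gen K hk hP hc hcd hv2 (by rwa [f1]) ?_)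
    rw [f1]
    intro e
    have : (μ * μ - 1) * nm K c = 0 := by linear_combination e
    exact hr ((mul_eq_zero.1 this).resolve_left (sub_ne_zero.2 hμ1))
  · obtain ⟨α', β', g1, g2⟩ := exists_el_zero K hs0
    obtain ⟨z2, hz2, hz2e⟩ := S.lift_el K (show k + 1 < n by omega) g1
    have f1 : cd (app (S.π z2) v1) k = 0 := by rw [(hz2e.2.2 v1).1, g2]
    have hv2 := S.four_app K hk hv1 (Subgroup.mem_sup_left hz2)
    have hne2 : nm K (cd (app (S.π z2) v1) k) ≠ 1 := by rw [f1, nm_zero]; exact zero_ne_one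
    refine S.reach_step (Subgroup.mem_sup_left hz2) (S.edge_nondeg K hk hP hz2 hv1val
      ⟨hv2.1, hne2⟩ hs1) (S.reach_gen K hk hP hc hcd hv2 hne2 ?_)
    rw [f1, nm_zero]; exact hr.symm

include K hk hP in
theorem edge_iso_four {x : G} (hx : x ∈ S.U k) {d : F} {v : Fin n → F} (hv : S.Four k d v)
    (hval : S.Val K k v) (hxv : S.Val K k (app (S.π x) v))
    (hs : nm K (cd v k) + nm K (cd v (k + 1)) = 1) (hc0 : cd v (k + 2) ≠ 0)
    (hc1 : nm K (cd v (k + 2)) ≠ -1) : S.Edge k x v := by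
  have hn := S.four_norm K hk hv
  obtain ⟨c, hc⟩ := exists_nm K (s := 1 + nm K (cd v (k + 2)))
    (by rw [map_add, map_one, bar_nm])
  have hcne : c ≠ 0 := fun e => hc1 (by rw [e, nm_zero] at hc; linear_combination -hc)
  have hcd : nm K c + nm K d = 1 := by linear_combination hc + hn - hs
  have hd : nm K d ≠ 0 := fun e => hc0 ((nm_eq_zero K).1 (by linear_combination hn - hs - e))
  have hxv' := S.four_app K hk hv (Subgroup.mem_sup_left hx)
  have hn' := S.four_norm K hk hxv'
  have hs' : nm K (cd (app (S.π x) v) k) + nm K (cd (app (S.π x) v) (k + 1)) = 1 := by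
    rw [Blk_cd K (S.mem_Blk (show k + 1 < n by omega) hx) v (i := k + 2) (by omega)] at hn'
    linear_combination hn' - hn + hs
  have hu : S.Four k d (base k c d) := by
    have hW : (base k c d : Fin n → F) ∈ W k := mem_W.2 fun i hi => by
      rw [cd_base K hk, if_neg (by omega), if_neg (by omega)]
    have hz : ∀ i, k + 4 ≤ i → cd (base k c d : Fin n → F) i = 0 := fun i hi => by
      rw [cd_base K hk, if_neg (by omega), if_neg (by omega)]
    refine ⟨⟨hW, ?_⟩, hz, by rw [cd_base K hk, if_neg (by omega), if_pos rfl]⟩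
    rw [norm_range K 4 hW hz, Finset.sum_range_succ, Finset.sum_range_succ, Finset.sum_range_succ,
      Finset.sum_range_one]
    simp [cd_base K hk, nm_zero, hcd]
  exact S.edge_of_reach K hk hP hcne hu (Subgroup.mem_sup_left hx)
    (S.reach_iso K hk hP hcne hcd hd hv hval.2 hs)
    (S.reach_iso K hk hP hcne hcd hd hxv' hxv.2 hs')

include K hk hP in
theorem edge_iso {x : G} (hx : x ∈ S.U k) {v : Fin n → F} (hval : S.Val K k v)
    (hxv : S.Val K k (app (S.π x) v))
    (hs : nm K (cd v k) + nm K (cd v (k + 1)) = 1) (hc0 : cd v (k + 2) ≠ 0) : S.Edge k x v := by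
  set c := cd v (k + 2)
  have hbv : cd (bv (k + 2) : Fin n → F) (k + 2) = 1 := by rw [cd_bv, if_pos ⟨rfl, by omega⟩]
  set δ := tl k v - c • bv (k + 2) with hδ
  have hδW : δ ∈ W (k + 3) := mem_W.2 fun i hi => by
    rw [hδ, cd_sub, cd_tl v (by omega), cd_smul]
    by_cases h : i = k + 2
    · subst h; rw [hbv, if_neg (by omega), mul_one, sub_self]
    · simp only [cd_bv, h, false_and, if_false, mul_zero, sub_zero]
      split_ifs with h'
      · rfl
      · exact mem_W.1 hval.1.1 i (by omega)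
  have hc2 : cd (tl k v) (k + 2) = c := by rw [cd_tl v (by omega), if_neg (by omega)]
  have hδn : H δ δ = -nm K c := by
    have h := norm_tl K hk v
    rw [hval.1.2, hs, norm_split K (tl k v) (show k + 2 < n by omega), hc2, ← hδ] at h
    linear_combination -h
  obtain ⟨-, g, hg, e, hge, -⟩ := to_axis K S.big hδW
    (by rw [hδn]; exact neg_ne_zero.2 fun h => hc0 ((nm_eq_zero K).1 h))
  obtain ⟨y, hy, rfl⟩ := S.surj K (k + 3) g hg
  have hy2 : y⁻¹ ∈ S.L (k + 2) := inv_mem (S.L_anti (Nat.le_succ _) hy)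
  refine S.edge_of_far K hk hP hx hy2 hval hxv fun hxw => ?_
  have hw := S.val_app K (S.L_anti (Nat.le_succ _) hy2) hval
  obtain ⟨w0, w1, -⟩ := S.far_app K hk hy2 v
  have w2 : cd (app (S.π y⁻¹) v) (k + 2) = c := S.app_L (inv_mem hy) (Nat.lt_succ_self _) K
  have wz : ∀ i, k + 4 ≤ i → cd (app (S.π y⁻¹) v) i = 0 := fun i hi => by
    by_cases hin : i < n
    swap
    · simp [cd, hin]
    have hvd : v = cd v k • bv k + cd v (k + 1) • bv (k + 1) + c • bv (k + 2) + δ := by
      rw [hδ, tl]; abel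
    rw [map_inv, hvd, app_add, app_add, app_add, app_smul, app_smul, app_smul, ← hge, app_inv,
      Fix_fix (S.mem_Fix hy) (show k < k + 3 by omega),
      Fix_fix (S.mem_Fix hy) (show k + 1 < k + 3 by omega),
      Fix_fix (S.mem_Fix hy) (show k + 2 < k + 3 by omega)]
    simp only [cd_add, cd_smul, cd_bv]
    simp [show i ≠ k by omega, show i ≠ k + 1 by omega, show i ≠ k + 2 by omega,
      show i ≠ k + 3 by omega]
  set w := app (S.π y⁻¹) v
  have hF : S.Four k (cd w (k + 3)) w := ⟨hw.1, wz, rfl⟩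
  have hsw : nm K (cd w k) + nm K (cd w (k + 1)) = 1 := by rw [w0, w1, hs]
  by_cases hc1 : nm K c = -1
  swap
  · exact S.edge_iso_four K hk hP hx hF hw hxw hsw (by rwa [w2]) (by rwa [w2])
  have hn := S.four_norm K hk hF
  have hd : nm K (cd w (k + 2)) + nm K (cd w (k + 3)) = 0 := by linear_combination hn - hsw
  have hd0 : cd w (k + 3) ≠ 0 := fun e => hc0 ((nm_eq_zero K).1 (by
    rw [w2, e, nm_zero, add_zero] at hd; exact hd))
  obtain ⟨ν, hν, hν0, hν1⟩ := exists_fixed_sq_ne K S.big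
  obtain ⟨α, β, h1, h2, -⟩ := exists_el_scale K hd hd0 hν hν0
  obtain ⟨z, hz, hze⟩ := S.lift_el K (show k + 2 + 1 < n by omega) h1
  have hzL : z ∈ S.L (k + 2) := S.U_le_L le_rfl (by omega) hz
  refine S.edge_of_far K hk hP hx hzL hw hxw fun hxw' => ?_
  have hw' := S.val_app K (S.L_anti (Nat.le_succ _) hzL) hw
  obtain ⟨u0, u1, -⟩ := S.far_app K hk hzL w
  refine S.edge_iso_four K hk hP hx (d := cd (app (S.π z) w) (k + 3)) ⟨hw'.1, fun i hi => ?_, rfl⟩
    hw' hxw' (by rw [u0, u1, hsw]) ?_ ?_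
  · rw [hze.cd_ne K w (by omega) (by omega)]; exact wz i hi
  · rw [(hze.2.2 w).1, h2, w2]; exact mul_ne_zero hν0 hc0
  · rw [(hze.2.2 w).1, h2, w2, nm_mul, nm_fixed K hν, hc1]
    intro h; exact hν1 (by linear_combination -h)
where
  Fix_fix {g : SU n F q} {m i : ℕ} (hg : g ∈ Fix m) (hi : i < m) :
      app g⁻¹ (bv i : Fin n → F) = bv i := inv_mem hg i hi

include K hk hP in
/-- The section commutes with the first subgroup. -/
theorem edge_U {x : G} (hx : x ∈ S.U k) {v : Fin n → F} (hval : S.Val K k v)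
    (hxv : S.Val K k (app (S.π x) v)) : S.Edge k x v := by
  by_cases hs : nm K (cd v k) + nm K (cd v (k + 1)) = 1
  swap
  · exact S.edge_nondeg K hk hP hx hval hxv hs
  by_cases hz : ∀ i, k + 3 ≤ i → cd v i = 0
  · exact S.edge_triple K hk hP hx hval hxv hz
  by_cases hc0 : cd v (k + 2) = 0
  swap
  · exact S.edge_iso K hk hP hx hval hxv hs hc0
  push Not at hz
  obtain ⟨i, hi, hi0⟩ := hz
  have hin : i < n := by by_contra h; exact hi0 (by simp [cd, h])
  set u : Fin n → F := bv (k + 2) with hu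
  set w : Fin n → F := bv i with hw
  obtain ⟨g, hg, hgu, hgw, -⟩ := exists_plane_move K (W := W (k + 2))
    (u := u) (w := w) (bv_mem_W le_rfl) (bv_mem_W (by omega))
    (by rw [hu, h_bv K, cd_bv, if_pos ⟨rfl, by omega⟩])
    (by rw [hw, h_bv K, cd_bv, if_pos ⟨rfl, hin⟩])
    (by rw [hu, hw, h_bv K, cd_bv, if_neg (by omega)]) (α := 0) (β := 1) (by simp)
  have hgF : g ∈ Fix (k + 2) := fun j hj => by
    have hjn : j < n := by omega
    rw [bv, dif_pos hjn]; exact gen_fix_W K hg hj
  obtain ⟨y, hy, rfl⟩ := S.surj K (k + 2) g hgF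
  refine S.edge_of_far K hk hP hx hy hval hxv fun hxw => ?_
  obtain ⟨w0, w1, -⟩ := S.far_app K hk hy v
  refine S.edge_iso K hk hP hx (S.val_app K (S.L_anti (Nat.le_succ _) hy) hval) hxw
    (by rw [w0, w1, hs]) ?_
  have hu' : app (S.π y) (-w) = u := by
    rw [show (-w : Fin n → F) = (-1 : F) • w by simp, app_smul, hgw]
    simp
  rw [← h_bv K, ← hu, ← hu', h_app, show (-w : Fin n → F) = (-1 : F) • w by simp]
  show (Unitary.space (n := n) K).h v ((-1 : F) • w) ≠ 0
  rw [(Unitary.space (n := n) K).smul_right]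
  show K.bar (-1) * hermForm n F q v w ≠ 0
  rw [hw, h_bv K, map_neg, map_one]
  simpa using hi0

end Sys

end CfsgLib.Classical.Phan
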