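import Cfsg.Agent.Lib.Classical.Phan.Amalgam

/-!
# Weak Phan systems of rank at least two
-/

set_option autoImplicit false
set_option linter.unusedSectionVars false

namespace CfsgLib.Classical.Phan

open Matrix Cfsg
open CfsgLib.Classical.Herm
open CfsgLib.ClassicalAut (Unitary.Conj Unitary.space Unitary.herm_apply)

variable {F : Type*} [Field F] [Finite F] {q : ℕ} (K : Unitary.Conj F q) {G : Type*} [Group G]

omit [Finite F] in
/-- A field with `q²` elements carries its involution. -/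
theorem exists_Conj [Fintype F] (hF : Fintype.card F = q ^ 2) : Nonempty (Unitary.Conj F q) := by
  obtain ⟨p, hp⟩ := CharP.exists F
  obtain ⟨k, hpr, hk⟩ := FiniteField.card F p
  haveI := Fact.mk hpr
  obtain ⟨f, -, hf⟩ := (Nat.dvd_prime_pow hpr).1
    (show q ∣ p ^ (k : ℕ) from hk ▸ hF ▸ dvd_pow_self q two_ne_zero)
  exact CfsgLib.ClassicalAut.Unitary.exists_conj hf (by rw [Nat.card_eq_fintype_card, hF])

include K in
/-- A chain of compatible standard pairs. -/
theorem exists_chain (hq : 4 ≤ q) (n : ℕ) (U : ℕ → Subgroup G) (V : ℕ → Subgroup G)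
    (hpair : ∀ j, j + 1 < n → ∃ ψ, Pair K ψ (U j) (U (j + 1)) (V j))
    (hc : ∀ j, j + 2 < n → ∀ x ∈ U j, ∀ y ∈ U (j + 2), x * y = y * x) (m : ℕ) :
    ∃ Ψ : ℕ → (SU 3 F q →* G),
      (∀ j, j < m → j + 1 < n → Pair K (Ψ j) (U j) (U (j + 1)) (V j)) ∧
      (∀ j, j + 1 < m → j + 2 < n → (Ψ (j + 1)).comp (bA K) = (Ψ j).comp (bB K)) := by
  classical
  induction m with
  | zero => exact ⟨fun _ => 1, fun j hj => by omega, fun j hj => by omega⟩
  | succ m ih =>
    obtain ⟨Ψ, hP, hC⟩ := ih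
    by_cases hm : m + 1 < n
    swap
    · exact ⟨Ψ, fun j hj hj' => hP j (by omega) hj', fun j hj hj' => hC j (by omega) hj'⟩
    obtain ⟨χ, hχ⟩ := hpair m hm
    obtain ⟨χ', hχ', hglue⟩ : ∃ χ', Pair K χ' (U m) (U (m + 1)) (V m) ∧
        ∀ j, j + 1 = m → χ'.comp (bA K) = (Ψ j).comp (bB K) := by
      rcases Nat.eq_zero_or_pos m with rfl | hpos
      · exact ⟨χ, hχ, fun j hj => by omega⟩
      obtain ⟨j, rfl⟩ : ∃ j, m = j + 1 := ⟨m - 1, by omega⟩
      obtain ⟨χ', h1, h2⟩ := glue K hq (hP j (by omega) (by omega)) hχ (hc j (by omega))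
      exact ⟨χ', h1, fun i hi => by rw [show i = j by omega]; exact h2⟩
    refine ⟨Function.update Ψ m χ', fun j hj hj' => ?_, fun j hj hj' => ?_⟩
    · by_cases e : j = m
      · subst e; rw [Function.update_self]; exact hχ'
      · rw [Function.update_of_ne e]; exact hP j (by omega) hj'
    · rw [Function.update_of_ne (show j ≠ m by omega)]
      by_cases e : j + 1 = m
      · rw [e, Function.update_self]; exact hglue j e
      · rw [Function.update_of_ne e]; exact hC j (by omega) hj'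

include K in
theorem blocks_top (hq : 4 ≤ q) :
    (bA K : SU 2 F q →* SU 3 F q).range ⊔ (bB K).range = ⊤ := by
  let S : Sys (F := F) (q := q) (SU 3 F q) 3 :=
    { π := MonoidHom.id _
      U := fun j => Blk j (j + 2)
      big := hq
      mapU := fun j _ => Subgroup.map_id _
      injU := fun _ _ _ _ => Function.injective_id.injOn }
  refine eq_top_iff.2 fun g _ => ?_
  obtain ⟨x, hx, rfl⟩ := S.surj K 0 g (by rw [Fix_zero]; exact Subgroup.mem_top g)
  have hle : S.L 0 ≤ (bA K : SU 2 F q →* SU 3 F q).range ⊔ (bB K).range := iSup₂_le fun j hj => by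
    rcases (show j = 0 ∨ j = 1 by omega) with rfl | rfl
    · rw [range_emb_two K h01]; exact le_sup_left
    · rw [range_emb_two K h12]; exact le_sup_right
  exact hle hx

include K in
/-- A weak Phan system makes its group a quotient of the special unitary group. -/
theorem phan_main (hq : 4 ≤ q) (n : ℕ) (hn : 2 ≤ n) (U : ℕ → Subgroup G) (V : ℕ → Subgroup G)
    (hpair : ∀ j, j + 1 < n → ∃ ψ, Pair K ψ (U j) (U (j + 1)) (V j))
    (hc : ∀ i j, i + 2 ≤ j → j < n → ∀ x ∈ U i, ∀ y ∈ U j, x * y = y * x) :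
    ∃ f : SU (n + 1) F q →* G,
      (∀ j, j < n → U j ≤ f.range) ∧ ∀ j, j + 1 < n → V j ≤ f.range := by
  classical
  obtain ⟨Ψ, hP, hC⟩ := exists_chain K hq n U V hpair (fun j hj => hc j (j + 2) le_rfl hj) n
  let θ : ℕ → (SU 2 F q →* G) := fun j =>
    if j + 1 < n then (Ψ j).comp (bA K) else (Ψ (j - 1)).comp (bB K)
  have hθA : ∀ j, j + 1 < n → θ j = (Ψ j).comp (bA K) := fun j hj => if_pos hj
  have hθB : ∀ j, j + 1 < n → θ (j + 1) = (Ψ j).comp (bB K) := fun j hj => by
    by_cases h : j + 2 < n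
    · rw [hθA _ h, hC j (by omega) h]
    · exact if_neg h
  have hθr : ∀ j, j < n → (θ j).range = U j ∧ Function.Injective (θ j) := by
    intro j hj
    by_cases h : j + 1 < n
    · rw [hθA j h]; exact ⟨(hP j hj h).rangeA, (hP j hj h).injA⟩
    · obtain ⟨i, rfl⟩ : ∃ i, j = i + 1 := ⟨j - 1, by omega⟩
      rw [hθB i hj]; exact ⟨(hP i (by omega) hj).rangeB, (hP i (by omega) hj).injB⟩
  let ρ : ℕ → (SU 2 F q →* SU (n + 1) F q × G) := fun j =>
    if h : j + 2 ≤ n + 1 then (emb K h).prod (θ j) else 1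
  have hρ : ∀ j (h : j + 2 ≤ n + 1), ρ j = (emb K h).prod (θ j) := fun j h => dif_pos h
  have hinj : ∀ j l, j ≤ l → j + 1 < n + 1 → l + 1 < n + 1 →
      Set.InjOn (MonoidHom.fst (SU (n + 1) F q) G) (↑((ρ j).range ⊔ (ρ l).range) : Set _) := by
    intro j l hjl hj hl
    rcases (show l = j ∨ l = j + 1 ∨ j + 2 ≤ l by omega) with rfl | rfl | h2
    · rw [sup_idem, hρ l hl]
      rintro _ ⟨A, rfl⟩ _ ⟨B, rfl⟩ e
      rw [emb_injective K hl (show emb K hl A = emb K hl B from e)]
    · have h3 : j + 3 ≤ n + 1 := by omega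
      have hjn : j + 1 < n := by omega
      have hle : (ρ j).range ⊔ (ρ (j + 1)).range ≤ ((emb K h3).prod (Ψ j)).range := by
        rw [hρ j hj, hρ (j + 1) hl, hθA j hjn, hθB j hjn]
        refine sup_le ?_ ?_
        · rintro _ ⟨A, rfl⟩
          exact ⟨bA K A, Prod.ext (emb_emb K h01 h3 (by omega) A) rfl⟩
        · rintro _ ⟨A, rfl⟩
          exact ⟨bB K A, Prod.ext (emb_emb K h12 h3 (by omega) A) rfl⟩
      refine Set.InjOn.mono (SetLike.coe_subset_coe.2 hle) ?_
      rintro _ ⟨A, rfl⟩ _ ⟨B, rfl⟩ e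
      rw [emb_injective K h3 (show emb K h3 A = emb K h3 B from e)]
    · have hcg : ∀ A B, Commute (θ j A) (θ l B) := fun A B =>
        hc j l h2 (by omega) _ ((hθr j (by omega)).1 ▸ ⟨A, rfl⟩) _ ((hθr l (by omega)).1 ▸ ⟨B, rfl⟩)
      have hce : ∀ A B : SU 2 F q, Commute (emb K hj A) (emb K hl B) := fun A B =>
        comm_Blk_Fix K h2 (emb_mem_Blk K hj A) (Blk_le_Fix le_rfl (emb_mem_Blk K hl B))
      let P := MonoidHom.noncommCoprod (ρ j) (ρ l) (fun A B => by
        rw [hρ j hj, hρ l hl]; exact Prod.ext (hce A B) (hcg A B))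
      have hle : (ρ j).range ⊔ (ρ l).range ≤ P.range := by
        rw [MonoidHom.noncommCoprod_range]
      refine Set.InjOn.mono (SetLike.coe_subset_coe.2 hle) ?_
      rintro _ ⟨⟨A, B⟩, rfl⟩ _ ⟨⟨A', B'⟩, rfl⟩ e
      have e' : emb K hj A * emb K hl B = emb K hj A' * emb K hl B' := by
        simpa [P, MonoidHom.noncommCoprod_apply, hρ j hj, hρ l hl] using e
      have hz : (emb K hj A')⁻¹ * emb K hj A = emb K hl B' * (emb K hl B)⁻¹ := by
        rw [inv_mul_eq_iff_eq_mul, ← mul_assoc, ← e', mul_inv_cancel_right]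
      have h1 : emb K hl B' * (emb K hl B)⁻¹ = 1 := by
        refine eq_of_basis fun i hi => ?_
        rw [app_one]
        by_cases hil : l ≤ i
        · rw [← hz]
          exact mul_mem (inv_mem (emb_mem_Blk K hj A')) (emb_mem_Blk K hj A) i (by omega)
        · exact mul_mem (emb_mem_Blk K hl B') (inv_mem (emb_mem_Blk K hl B)) i (by omega)
      rw [h1, inv_mul_eq_one] at hz
      rw [mul_inv_eq_one] at h1
      rw [emb_injective K hj hz, emb_injective K hl h1]
  let S : Sys (F := F) (q := q) (SU (n + 1) F q × G) (n + 1) :=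
    { π := MonoidHom.fst _ _
      U := fun j => (ρ j).range
      big := hq
      mapU := fun j hj => by
        show Subgroup.map _ (ρ j).range = _
        rw [hρ j hj, ← MonoidHom.range_comp, MonoidHom.fst_comp_prod, range_emb_two K hj]
      injU := fun j l hj hl => by
        rcases le_total j l with h | h
        · exact hinj j l h hj hl
        · rw [sup_comm]; exact hinj l j h hl hj }
  obtain ⟨f, hf⟩ := S.exists_hom K (MonoidHom.snd _ _)
  have hU : ∀ j, j < n → U j ≤ f.range := fun j hj => by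
    rw [hf, ← (hθr j hj).1]
    rintro _ ⟨A, rfl⟩
    refine ⟨ρ j A, S.U_le_L (Nat.zero_le j) (by omega) ⟨A, rfl⟩, ?_⟩
    rw [hρ j (by omega)]; rfl
  refine ⟨f, hU, fun j hj => ?_⟩
  rw [← (hP j (by omega) hj).range, MonoidHom.range_eq_map, ← blocks_top K hq, Subgroup.map_sup,
    ← MonoidHom.range_comp, ← MonoidHom.range_comp, (hP j (by omega) hj).rangeA,
    (hP j (by omega) hj).rangeB]
  exact sup_le (hU j (by omega)) (hU (j + 1) hj)

end CfsgLib.Classical.Phan
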