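import Cfsg.Agent.Lib.Classical.Phan.Main
import Cfsg.Agent.S0281

/-!
# Positions of two-dimensional subgroups inside the three-dimensional unitary group
-/

set_option autoImplicit false
set_option linter.unusedSectionVars false

namespace CfsgLib.Classical.Phan

open Matrix Cfsg
open CfsgLib.Classical.Herm
open CfsgLib.ClassicalAut (Unitary.Conj Unitary.space Unitary.herm_apply)

variable {F : Type*} [Field F] [Finite F] {q : ℕ} (K : Unitary.Conj F q)

local notation "H" => hermForm 3 F q

include K in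
theorem exists_SL_two (hq : 4 ≤ q) : ∃ E : Subfield F,
    commutator (Matrix.SpecialLinearGroup (Fin 2) E) = ⊤ ∧
      Nonempty (SU 2 F q ≃* Matrix.SpecialLinearGroup (Fin 2) E) := by
  classical
  cases nonempty_fintype F
  set E : Subfield F := RingHom.eqLocusField K.bar (RingHom.id F)
  cases nonempty_fintype E
  refine ⟨E, ?_, Cfsg.Agent.S0281.result (by rw [← Nat.card_eq_fintype_card, K.card]) ?_⟩
  · obtain ⟨ν, h1, h2, h3⟩ := exists_fixed_sq_ne K hq
    exact CfsgLib.Classical.commutator_SL_eq_top (.inr ⟨⟨ν, h1⟩,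
      fun e => h2 (congrArg Subtype.val e), fun e => h3 (by rw [← sq]; exact congrArg Subtype.val e)⟩)
  · rw [← Nat.card_eq_fintype_card]
    let eU : Eˣ ≃ {c : F // K.bar c = c ∧ c ≠ 0} :=
      { toFun := fun u => ⟨((u : E) : F), (u : E).2, fun h => u.ne_zero (Subtype.ext h)⟩
        invFun := fun c => Units.mk0 ⟨c.1, c.2.1⟩ (fun h => c.2.2 (congrArg Subtype.val h))
        left_inv := fun u => Units.ext rfl
        right_inv := fun c => rfl }
    have h := Nat.card_congr eU
    rw [card_fixed K, Nat.card_units] at h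
    have : 0 < Nat.card E := Nat.card_pos
    omega

include K in
theorem su_two_perfect (hq : 4 ≤ q) : commutator (SU 2 F q) = ⊤ := by
  obtain ⟨E, hE, ⟨e⟩⟩ := exists_SL_two K hq
  rw [commutator_def] at hE ⊢
  have h := congrArg (Subgroup.map e.symm.toMonoidHom) hE
  rwa [Subgroup.map_commutator, Subgroup.map_top_of_surjective e.symm.toMonoidHom e.symm.surjective] at h

include K in
/-- Orthogonal isotropic vectors in dimension three are proportional. -/
theorem iso_orth_dep {v w : Fin 3 → F} (hv : H v v = 0) (hw : H w w = 0) (hvw : H v w = 0)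
    (hv0 : v ≠ 0) : ∃ c : F, w = c • v := by
  obtain ⟨i, hi⟩ := Function.ne_iff.1 hv0
  simp only [Pi.zero_apply] at hi
  refine ⟨w i / v i, ?_⟩
  set w' := w - (w i / v i) • v with hw'
  suffices h : w' = 0 from sub_eq_zero.1 h
  set S := Unitary.space (n := 3) K
  have hwv : H w v = 0 := by rw [h_swap K v w, hvw, map_zero]
  have h1 : H w' w' = 0 := by
    show S.h _ _ = 0
    rw [hw', S.sub_left, S.sub_right, S.sub_right, S.smul_left, S.smul_left, S.smul_right,
      S.smul_right]
    show H w w - _ * H w v - ((w i / v i) * H v w - _ * (_ * H v v)) = 0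
    rw [hw, hwv, hvw, hv]; ring
  have h2 : H v w' = 0 := by
    show S.h _ _ = 0
    rw [hw', S.sub_right, S.smul_right]
    show H v w - _ * H v v = 0
    rw [hvw, hv]; ring
  have hwi : w' i = 0 := by simp [hw', div_mul_cancel₀ _ hi]
  rw [Unitary.herm_apply K, Fin.sum_univ_three] at h1 h2 hv
  have key : ∀ (vi vj vk wj wk : F), vi * K.bar vi + vj * K.bar vj + vk * K.bar vk = 0 →
      wj * K.bar wj + wk * K.bar wk = 0 → vj * K.bar wj + vk * K.bar wk = 0 → vi ≠ 0 →
      wj = 0 ∧ wk = 0 := by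
    intro vi vj vk wj wk e1 e2 e3 hvi
    by_cases hj : wj = 0
    · refine ⟨hj, ?_⟩
      rw [hj, zero_mul, zero_add] at e2
      exact (nm_eq_zero K).1 e2
    have e4 : wj * K.bar vj + wk * K.bar vk = 0 := by
      have := congrArg K.bar e3
      simp only [map_add, map_mul, K.bar_bar, map_zero] at this
      linear_combination this
    have e5 : (vj * K.bar vj + vk * K.bar vk) * (wj * K.bar wj) = 0 := by
      linear_combination (wj * K.bar vj) * e3 - (vk * K.bar wk) * e4 + (vk * K.bar vk) * e2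
    have e6 : vj * K.bar vj + vk * K.bar vk = 0 :=
      (mul_eq_zero.1 e5).resolve_right fun h => hj ((nm_eq_zero K).1 h)
    exact absurd ((nm_eq_zero K).1 (show nm K vi = 0 by rw [nm]; linear_combination e1 - e6)) hvi
  fin_cases i <;> simp only [Fin.zero_eta, Fin.mk_one, Fin.reduceFinMk] at hwi hi <;>
    rw [hwi] at h1 h2 <;> simp only [zero_mul, map_zero, mul_zero, zero_add, add_zero] at h1 h2
  · obtain ⟨a, b⟩ := key (v 0) (v 1) (v 2) _ _ hv h1 h2 hi
    funext l; fin_cases l
    exacts [hwi, a, b]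
  · obtain ⟨a, b⟩ := key (v 1) (v 0) (v 2) _ _ (by linear_combination hv) h1 h2 hi
    funext l; fin_cases l
    exacts [a, hwi, b]
  · obtain ⟨a, b⟩ := key (v 2) (v 0) (v 1) _ _ (by linear_combination hv) h1 h2 hi
    funext l; fin_cases l
    exacts [a, b, hwi]

include K in
theorem exists_scaled {a : Fin 3 → F} (ha : H a a ≠ 0) : ∃ c : F, c ≠ 0 ∧ H (c • a) (c • a) = 1 := by
  obtain ⟨c, hc⟩ := exists_nm K (s := (H a a)⁻¹) (by rw [map_inv₀, ← h_swap K a a])
  refine ⟨c, fun e => ha (inv_eq_zero.1 (by rw [← hc, e, nm_zero])), ?_⟩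
  show (Unitary.space (n := 3) K).h _ _ = 1
  rw [(Unitary.space (n := 3) K).smul_left, (Unitary.space (n := 3) K).smul_right]
  show c * (K.bar c * H a a) = 1
  rw [← mul_assoc]
  show nm K c * H a a = 1
  rw [hc, inv_mul_cancel₀ ha]

include K in
theorem exists_to_two (hq : 4 ≤ q) {v : Fin 3 → F} (hv : H v v = 1) :
    ∃ g : SU 3 F q, app g (bv 2 : Fin 3 → F) = v := by
  obtain ⟨g, -, hg⟩ := exists_move_sphere K (n := 3) (k := 0) (by norm_num) (fun h => by omega)
    (mem_W.2 fun i hi => absurd hi (Nat.not_lt_zero i)) hv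
  obtain ⟨w0, hw0⟩ := exists_el K (n := 3) (j := 0) (by norm_num) (α := (0 : F)) (β := 1)
    (by rw [nm_zero, nm_one, zero_add])
  obtain ⟨w1, hw1⟩ := exists_el K (n := 3) (j := 1) (by norm_num) (α := (0 : F)) (β := 1)
    (by rw [nm_zero, nm_one, zero_add])
  have e : app (w1 * w0) (bv 0 : Fin 3 → F) = bv 2 := by
    rw [app_mul, el_app0 hw0, el_app0 hw1]
  refine ⟨g * (w1 * w0)⁻¹, ?_⟩
  rw [app_mul, ← e, app_inv]
  rw [bv, dif_pos (by norm_num)]
  exact hg
where
  el_app0 {g : SU 3 F q} {j : ℕ} (h : IsEl K g j 0 1) : app g (bv j : Fin 3 → F) = bv (j + 1) := by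
    rw [h.2.1, zero_smul, one_smul, zero_add]

include K in
/-- An involution of `SU 2` in odd characteristic is `-1`. -/
theorem two_invol (h2 : (2 : F) ≠ 0) {A : SU 2 F q} (hA : A * A = 1) (hA1 : A ≠ 1) :
    mat A 0 0 = -1 ∧ mat A 1 0 = 0 := by
  have e := two_mul K A A
  rw [hA, show mat (1 : SU 2 F q) = 1 from rfl, Matrix.one_apply_eq, Matrix.one_apply_ne (by decide)] at e
  have hn : mat A 0 0 * K.bar (mat A 0 0) + mat A 1 0 * K.bar (mat A 1 0) = 1 := (mat_two K A).2
  have h1 : mat A 0 0 * (mat A 0 0 + K.bar (mat A 0 0)) = 2 := by linear_combination hn - e.1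
  have hs : mat A 0 0 + K.bar (mat A 0 0) ≠ 0 := fun h => h2 (by rw [← h1, h, mul_zero])
  have hc : mat A 1 0 = 0 := (mul_eq_zero.1 (show mat A 1 0 * (mat A 0 0 + K.bar (mat A 0 0)) = 0 by
    linear_combination -e.2)).resolve_right hs
  have ha : mat A 0 0 * mat A 0 0 = 1 := by rw [hc, map_zero] at e; linear_combination -e.1
  refine ⟨(mul_self_eq_one_iff.1 ha).resolve_left fun h => hA1 ?_, hc⟩
  refine two_ext K ?_ ?_
  · simp [h, show mat (1 : SU 2 F q) = 1 from rfl]
  · simp [hc, show mat (1 : SU 2 F q) = 1 from rfl]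

include K in
theorem blk_two_app {X : SU 3 F q} (hX : app X (bv 2 : Fin 3 → F) = bv 2) :
    X ∈ Blk 0 2 := fun i hi => by
  rcases (show i = 2 ∨ 3 ≤ i by omega) with rfl | h
  · exact hX
  · rw [bv, dif_neg (by omega), app_zero']

include K in
theorem app_scalar {a b : Fin 3 → F} {g : SU 3 F q} (h : app g a = b) (c : F) :
    app g (c • a) = c • b := by rw [app_smul, h]

include K in
/-- The odd characteristic case. -/
theorem fix_vec_odd (hq : 4 ≤ q) (h2 : (2 : F) ≠ 0) {f : SU 2 F q →* SU 3 F q}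
    (hf : Function.Injective f) : ∃ a, H a a = 1 ∧ ∀ A, app (f A) a = a := by
  classical
  set S := Unitary.space (n := 3) K
  obtain ⟨z, hz0, hz1⟩ := exists_two K (α := (-1 : F)) (β := 0) (by rw [nm_neg, nm_one, nm_zero, add_zero])
  have hzc : ∀ A, z * A = A * z := fun A => by
    refine two_ext K ?_ ?_
    · rw [(two_mul K _ _).1, (two_mul K _ _).1, hz0, hz1]; simp
    · rw [(two_mul K _ _).2, (two_mul K _ _).2, hz0, hz1]; simp
  have hzz : z * z = 1 := by
    refine two_ext K ?_ ?_
    · rw [(two_mul K _ _).1, hz0, hz1]; simp [show mat (1 : SU 2 F q) = 1 from rfl]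
    · rw [(two_mul K _ _).2, hz0, hz1]; simp [show mat (1 : SU 2 F q) = 1 from rfl]
  have hz : z ≠ 1 := fun e => h2 (by
    rw [e] at hz0
    have : (1 : F) = -1 := hz0
    linear_combination this)
  set t := f z with ht
  have htt : t * t = 1 := by rw [ht, ← map_mul, hzz, map_one]
  have ht1 : t ≠ 1 := fun e => hz (hf (by rw [← ht, e, map_one]))
  have hfix : ∀ x : Fin 3 → F, app t (x + app t x) = x + app t x := fun x => by
    rw [app_add, ← app_mul, htt, app_one, add_comm]
  obtain ⟨a, ha0, hat⟩ : ∃ a : Fin 3 → F, a ≠ 0 ∧ app t a = a := by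
    by_contra hc
    push Not at hc
    have hneg : ∀ x, app t x = -x := fun x => by
      have := hfix x
      by_contra h
      exact hc _ (fun e => h (eq_neg_of_add_eq_zero_right e)) this
    have hdet := t.1.det_coe
    have : (t.1 : Matrix (Fin 3) (Fin 3) F) = -1 := Matrix.ext_of_mulVec_single fun j => by
      rw [neg_mulVec, one_mulVec]; exact hneg _
    rw [this, Matrix.det_neg, Matrix.det_one, Fintype.card_fin, mul_one] at hdet
    exact h2 (by linear_combination -hdet)
  obtain ⟨a', ha', hat'⟩ : ∃ a : Fin 3 → F, H a a = 1 ∧ app t a = a := by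
    obtain ⟨b, hb, hbt⟩ : ∃ a : Fin 3 → F, H a a ≠ 0 ∧ app t a = a := by
      by_cases haa : H a a = 0
      swap
      · exact ⟨a, haa, hat⟩
      obtain ⟨i, hi⟩ := Function.ne_iff.1 ha0
      simp only [Pi.zero_apply] at hi
      set y := bv (i : ℕ) + app t (bv (i : ℕ) : Fin 3 → F)
      have hay : H a y = 2 * a i := by
        show S.h a _ = _
        rw [S.add_right]
        show H a (bv (i : ℕ)) + H a (app t (bv (i : ℕ))) = _
        conv_lhs => arg 2; rw [← hat]
        rw [h_app, h_bv K, cd_coe]; ring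
      by_cases hyy : H y y = 0
      swap
      · exact ⟨y, hyy, hfix _⟩
      obtain ⟨y0, hy0⟩ := K.exists_trace
      have hd : H a y ≠ 0 := by rw [hay]; exact mul_ne_zero h2 hi
      have hy' : app t y = y := hfix _
      clear_value y
      refine ⟨(y0 / H a y) • a + y, ?_, by rw [app_add, app_smul, hat, hy']⟩
      show S.h _ _ ≠ 0
      rw [S.add_left, S.add_right, S.add_right, S.smul_left, S.smul_left, S.smul_right, S.smul_right]
      show _ * (_ * H a a) + _ * H a y + (K.bar (y0 / H a y) * H y a + H y y) ≠ 0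
      rw [haa, hyy, div_mul_cancel₀ _ hd, h_swap K a y, ← map_mul, div_mul_cancel₀ _ hd]
      simpa using hy0
    obtain ⟨c, -, hc⟩ := exists_scaled K hb
    exact ⟨c • b, hc, by rw [app_smul, hbt]⟩
  obtain ⟨g, hg⟩ := exists_to_two K hq ha'
  set s := g⁻¹ * t * g with hs
  have hs2 : app s (bv 2 : Fin 3 → F) = bv 2 := by
    rw [hs, app_mul, app_mul, hg, hat', ← hg, app_inv]
  obtain ⟨T, hT⟩ : s ∈ (emb K h01 : SU 2 F q →* SU 3 F q).range := by
    rw [range_emb_two K h01]; exact blk_two_app K hs2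
  have hTT : T * T = 1 := emb_injective K h01 (by
    rw [map_mul, hT, map_one, hs, show g⁻¹ * t * g * (g⁻¹ * t * g) = g⁻¹ * (t * t) * g by group, htt]
    group)
  have hT1 : T ≠ 1 := fun e => ht1 (by
    have h := hT
    rw [e, map_one, hs] at h
    have := congrArg (fun x => g * x * g⁻¹) h
    simpa [mul_assoc] using this.symm)
  obtain ⟨hT0, hT10⟩ := two_invol K h2 hTT hT1
  have hsfix : ∀ x, app s x = x → x = cd x 2 • bv 2 := by
    intro x hx
    have e := emb_two K h01 T
    rw [hT, hT0, hT10] at e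
    have h0 := (e.2.2 x).1
    have h1 := (e.2.2 x).2
    rw [hx] at h0 h1
    simp only [map_zero, zero_mul, sub_zero, map_neg, map_one, neg_mul, one_mul, zero_add] at h0 h1
    have c0 : cd x 0 = 0 := (mul_eq_zero.1 (show (2 : F) * cd x 0 = 0 by linear_combination h0)).resolve_left h2
    have c1 : cd x 1 = 0 := (mul_eq_zero.1 (show (2 : F) * cd x 1 = 0 by linear_combination h1)).resolve_left h2
    refine ext_cd fun i hi => ?_
    rw [cd_smul, cd_bv]
    rcases (show i = 0 ∨ i = 1 ∨ i = 2 by omega) with rfl | rfl | rfl <;> simp [c0, c1]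
  have hline : ∀ A, ∃ c : F, app (f A) a' = c • a' := by
    intro A
    have h1 : app t (app (f A) a') = app (f A) a' := by
      rw [← app_mul, ht, ← map_mul, hzc, map_mul, app_mul, ← ht, hat']
    refine ⟨cd (app g⁻¹ (app (f A) a')) 2, ?_⟩
    have h2 := hsfix (app g⁻¹ (app (f A) a')) (by
      rw [hs, app_mul, app_mul, ← app_mul g g⁻¹, mul_inv_cancel, app_one, h1])
    have h3 := congrArg (app g) h2
    rwa [← app_mul, mul_inv_cancel, app_one, app_smul, hg] at h3
  refine ⟨a', ha', ?_⟩
  choose c hc using hline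
  have hc' : ∀ A, c A = H (app (f A) a') a' := fun A => by
    rw [hc A]
    show _ = S.h (c A • a') a'
    rw [S.smul_left]
    show _ = c A * H a' a'
    rw [ha', mul_one]
  let χ : SU 2 F q →* F :=
    { toFun := c
      map_one' := by rw [hc', map_one, app_one, ha']
      map_mul' := fun A B => by
        rw [hc' (A * B), map_mul, app_mul, hc B, app_smul, hc A, smul_smul]
        show S.h _ _ = _
        rw [S.smul_left]
        show _ * H a' a' = _
        rw [ha', mul_one, mul_comm] }
  have hker : commutator (SU 2 F q) ≤ χ.ker := by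
    rw [commutator_eq_closure, Subgroup.closure_le]
    rintro _ ⟨A, B, rfl⟩
    rw [SetLike.mem_coe, MonoidHom.mem_ker, commutatorElement_def, map_mul, map_mul, map_mul,
      mul_right_comm (χ A) (χ B), ← map_mul, mul_inv_cancel, map_one, one_mul, ← map_mul,
      mul_inv_cancel, map_one]
  rw [su_two_perfect K hq] at hker
  intro A
  have : c A = 1 := hker (Subgroup.mem_top A)
  rw [hc A, this, one_smul]

include K in
theorem exists_orth_pair {v w : Fin 3 → F} :
    ∃ a : Fin 3 → F, a ≠ 0 ∧ H a v = 0 ∧ H a w = 0 := by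
  set S := Unitary.space (n := 3) K
  let L : (Fin 3 → F) →ₗ[F] F × F :=
    { toFun := fun x => (S.h x v, S.h x w)
      map_add' := fun x y => Prod.ext (S.add_left _ _ _) (S.add_left _ _ _)
      map_smul' := fun c x => Prod.ext (S.smul_left _ _ _) (S.smul_left _ _ _) }
  have hne : L.ker ≠ ⊥ := fun hbot => by
    have h := LinearMap.finrank_range_add_finrank_ker L
    rw [hbot, finrank_bot, Module.finrank_pi, Fintype.card_fin] at h
    have h2 := Submodule.finrank_le (LinearMap.range L)
    rw [Module.finrank_prod, Module.finrank_self] at h2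
    omega
  obtain ⟨a, ha, ha0⟩ := Submodule.exists_mem_ne_zero_of_ne_bot hne
  exact ⟨a, ha0, congrArg Prod.fst (LinearMap.mem_ker.1 ha), congrArg Prod.snd (LinearMap.mem_ker.1 ha)⟩

include K in
/-- An involution in even characteristic is a transvection. -/
theorem invol_even (h2 : (2 : F) = 0) {t : SU 3 F q} (ht : t * t = 1) (ht1 : t ≠ 1) :
    ∃ v : Fin 3 → F, v ≠ 0 ∧ H v v = 0 ∧ (∀ x, ∃ c : F, app t x = x + c • v) ∧
      ∀ x, H x v = 0 ↔ app t x = x := by
  set S := Unitary.space (n := 3) K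
  set N : (Fin 3 → F) → (Fin 3 → F) := fun x => app t x - x with hN
  have hNN : ∀ x, app t (N x) = N x := fun x => by
    rw [hN, app_sub', ← app_mul, ht, app_one]
    funext i
    simp only [Pi.sub_apply]
    linear_combination (x i - app t x i) * h2
  have hiso : ∀ x y, H (N x) (N y) = 0 := fun x y => by
    have h1 : H (N x) (app t y) = H (N x) y := by conv_lhs => rw [← hNN x, h_app]
    show S.h _ _ = 0
    rw [hN]
    show S.h _ (app t y - y) = 0
    rw [S.sub_right]
    show H (N x) (app t y) - H (N x) y = 0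
    rw [h1, sub_self]
  obtain ⟨x0, hx0⟩ : ∃ x, N x ≠ 0 := by
    by_contra hc
    push Not at hc
    exact ht1 (ext_app fun x => by rw [app_one]; exact sub_eq_zero.1 (hc x))
  set v := N x0
  have hNv : ∀ x, ∃ c : F, N x = c • v := fun x =>
    iso_orth_dep K (hiso x0 x0) (hiso x x) (hiso x0 x) hx0
  refine ⟨v, hx0, hiso x0 x0, fun x => ?_, fun x => ?_⟩
  · obtain ⟨c, hc⟩ := hNv x
    exact ⟨c, by rw [← hc, hN]; simp⟩
  · have hcross : ∀ y z, H (N y) z + H y (N z) = 0 := fun y z => by
      have h1 : H (app t y) (app t z) = H y z := h_app _ _ _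
      rw [show app t y = N y + y by simp [hN], show app t z = N z + z by simp [hN]] at h1
      change S.h _ _ = _ at h1
      rw [S.add_left, S.add_right, S.add_right] at h1
      change H (N y) (N z) + H (N y) z + (H y (N z) + H y z) = H y z at h1
      rw [hiso, zero_add] at h1
      linear_combination h1
    constructor
    · intro hx
      by_contra hne
      have hN0 : N x ≠ 0 := sub_ne_zero.2 hne
      obtain ⟨i, hi⟩ := Function.ne_iff.1 hN0
      have h := hcross x (bv (i : ℕ))
      obtain ⟨c, hc⟩ := hNv (bv (i : ℕ))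
      rw [hc] at h
      change _ + S.h x (c • v) = 0 at h
      rw [S.smul_right] at h
      change H (N x) (bv (i : ℕ)) + K.bar c * H x v = 0 at h
      rw [hx, mul_zero, add_zero, h_bv K, cd_coe] at h
      exact hi h
    · intro hx
      have h := hcross x x0
      rw [show N x = 0 from sub_eq_zero.2 hx] at h
      change S.h 0 x0 + H x v = 0 at h
      rwa [S.zero_left, zero_add] at h

include K in
theorem invol_comm (h2 : (2 : F) = 0) {t s : SU 3 F q} (ht : t * t = 1) (ht1 : t ≠ 1)
    (hs : s * s = 1) (hs1 : s ≠ 1) (hts : t * s = s * t) {v w : Fin 3 → F}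
    (hv : v ≠ 0 ∧ H v v = 0 ∧ (∀ x, ∃ c : F, app t x = x + c • v) ∧ ∀ x, H x v = 0 ↔ app t x = x)
    (hw : w ≠ 0 ∧ H w w = 0 ∧ (∀ x, ∃ c : F, app s x = x + c • w) ∧ ∀ x, H x w = 0 ↔ app s x = x) :
    ∃ c : F, c ≠ 0 ∧ w = c • v := by
  have hvw : H v w = 0 := by
    by_contra hne
    have hsv : app s v ≠ v := fun e => hne ((hw.2.2.2 v).2 e)
    obtain ⟨c, hc⟩ := hw.2.2.1 v
    have htv : app t v = v := (hv.2.2.2 v).1 hv.2.1
    have h1 : app t (app s v) = app s v := by rw [← app_mul, hts, app_mul, htv]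
    have h3 : H (app s v) v = 0 := (hv.2.2.2 _).2 h1
    rw [hc] at h3
    change (Unitary.space (n := 3) K).h (v + c • w) v = 0 at h3
    rw [(Unitary.space (n := 3) K).add_left, (Unitary.space (n := 3) K).smul_left] at h3
    change H v v + c * H w v = 0 at h3
    rw [hv.2.1, zero_add] at h3
    rcases mul_eq_zero.1 h3 with h | h
    · exact hsv (by rw [hc, h, zero_smul, add_zero])
    · exact hne (by rw [h_swap K w v, h, map_zero])
  obtain ⟨c, hc⟩ := iso_orth_dep K hv.2.1 hw.2.1 hvw hv.1
  exact ⟨c, fun e => hw.1 (by rw [hc, e, zero_smul]), hc⟩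

include K in
/-- The even characteristic case. -/
theorem fix_vec_even (hq : 4 ≤ q) (h2 : (2 : F) = 0) {f : SU 2 F q →* SU 3 F q}
    (hf : Function.Injective f) : ∃ a, H a a = 1 ∧ ∀ A, app (f A) a = a := by
  classical
  set S := Unitary.space (n := 3) K
  obtain ⟨E, -, ⟨e⟩⟩ := exists_SL_two K hq
  let g : Matrix.SpecialLinearGroup (Fin 2) E →* SU 3 F q := f.comp e.symm.toMonoidHom
  have hg : Function.Injective g := hf.comp e.symm.injective
  have hE2 : (2 : E) = 0 := Subtype.ext (by
    show E.subtype 2 = E.subtype 0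
    rw [map_ofNat, map_zero, h2])
  have h01' : (0 : Fin 2) ≠ 1 := by decide
  let tu : E → SU 3 F q := fun c => g (Matrix.SpecialLinearGroup.transvection h01' c)
  let td : E → SU 3 F q := fun c => g (Matrix.SpecialLinearGroup.transvection h01'.symm c)
  have sq1 : ∀ {i j : Fin 2} (h : i ≠ j) (c : E),
      g (Matrix.SpecialLinearGroup.transvection h c) * g (Matrix.SpecialLinearGroup.transvection h c) = 1 := by
    intro i j h c
    rw [← map_mul]
    convert map_one g
    refine Subtype.ext ?_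
    rw [Matrix.SpecialLinearGroup.coe_mul, Matrix.SpecialLinearGroup.transvection_coe,
      Matrix.SpecialLinearGroup.coe_one, add_mul, mul_add, mul_add, Matrix.one_mul, Matrix.mul_one,
      Matrix.one_mul, Matrix.single_mul_single_of_ne _ _ _ _ h.symm, add_zero]
    rw [show (1 : Matrix (Fin 2) (Fin 2) E) + Matrix.single i j c + Matrix.single i j c =
      1 + (Matrix.single i j c + Matrix.single i j c) by abel, ← Matrix.single_add,
      show c + c = 0 by linear_combination c * hE2, Matrix.single_zero, add_zero]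
  have ne1 : ∀ {i j : Fin 2} (h : i ≠ j), g (Matrix.SpecialLinearGroup.transvection h (1 : E)) ≠ 1 := by
    intro i j h e1
    have := congrArg (fun M : Matrix.SpecialLinearGroup (Fin 2) E => (M : Matrix (Fin 2) (Fin 2) E) i j)
      (hg (e1.trans (map_one g).symm))
    simp [Matrix.SpecialLinearGroup.transvection_coe, h] at this
  have comm : ∀ {i j : Fin 2} (h : i ≠ j) (c d : E),
      g (Matrix.SpecialLinearGroup.transvection h c) * g (Matrix.SpecialLinearGroup.transvection h d) =
      g (Matrix.SpecialLinearGroup.transvection h d) * g (Matrix.SpecialLinearGroup.transvection h c) := by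
    intro i j h c d
    rw [← map_mul, ← map_mul]
    congr 1
    refine Subtype.ext ?_
    simp only [Matrix.SpecialLinearGroup.coe_mul, Matrix.SpecialLinearGroup.transvection_coe, add_mul,
      mul_add, Matrix.one_mul, Matrix.mul_one, Matrix.single_mul_single_of_ne _ _ _ _ h.symm, add_zero]
    abel
  have axis : ∀ {i j : Fin 2} (h : i ≠ j), ∃ v : Fin 3 → F, v ≠ 0 ∧ H v v = 0 ∧
      ∀ (c : E) x, H x v = 0 → app (g (Matrix.SpecialLinearGroup.transvection h c)) x = x := by
    intro i j h
    obtain ⟨v, hv⟩ := invol_even K h2 (sq1 h 1) (ne1 h)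
    refine ⟨v, hv.1, hv.2.1, fun c x hx => ?_⟩
    by_cases hc : g (Matrix.SpecialLinearGroup.transvection h c) = 1
    · rw [hc, app_one]
    obtain ⟨w, hw⟩ := invol_even K h2 (sq1 h c) hc
    obtain ⟨d, -, hd⟩ := invol_comm K h2 (sq1 h 1) (ne1 h) (sq1 h c) hc (comm h 1 c) hv hw
    refine (hw.2.2.2 x).1 ?_
    rw [hd]
    show S.h x (d • v) = 0
    rw [S.smul_right]
    show K.bar d * H x v = 0
    rw [hx, mul_zero]
  obtain ⟨v, hv0, hvv, hvfix⟩ := axis h01'
  obtain ⟨w, hw0, hww, hwfix⟩ := axis h01'.symm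
  have hall : ∀ x, H x v = 0 → H x w = 0 → ∀ A, app (f A) x = x := by
    intro x hxv hxw
    let St : Subgroup (Matrix.SpecialLinearGroup (Fin 2) E) :=
      { carrier := {M | app (g M) x = x}
        one_mem' := by show app (g 1) x = x; rw [map_one, app_one]
        mul_mem' := fun {a b} ha hb => by
          show app (g (a * b)) x = x; rw [map_mul, app_mul, show app (g b) x = x from hb]; exact ha
        inv_mem' := fun {a} ha => by
          show app (g a⁻¹) x = x
          conv_lhs => rw [← show app (g a) x = x from ha]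
          rw [map_inv, app_inv] }
    have hSt : St = ⊤ := CfsgLib.Classical.eq_top_of_transvection_mem St fun i j hij c => by
      fin_cases i <;> fin_cases j
      · exact absurd rfl hij
      · exact hvfix c x hxv
      · exact hwfix c x hxw
      · exact absurd rfl hij
    intro A
    have h : e A ∈ St := hSt ▸ Subgroup.mem_top _
    have h' : app (f (e.symm (e A))) x = x := h
    rwa [MulEquiv.symm_apply_apply] at h'
  have hvw : H v w ≠ 0 := by
    intro hvw
    obtain ⟨c, hc⟩ := iso_orth_dep K hvv hww hvw hv0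
    have hall' : ∀ x, H x v = 0 → ∀ A, app (f A) x = x := fun x hx => hall x hx (by
      rw [hc]
      show S.h x (c • v) = 0
      rw [S.smul_right]
      show K.bar c * H x v = 0
      rw [hx, mul_zero])
    have hab : ∀ A B : SU 2 F q, A * B = B * A := by
      intro A B
      refine hf ?_
      rw [map_mul, map_mul]
      refine ext_app fun x => ?_
      rw [app_mul, app_mul]
      have key : ∀ A, H (app (f A) x - x) v = 0 := fun A => by
        show S.h _ _ = 0
        rw [S.sub_left]
        show H (app (f A) x) v - H x v = 0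
        have := h_app (f A) x v
        rw [hall' v hvv A] at this
        rw [this, sub_self]
      have e1 := hall' _ (key B) A
      have e2 := hall' _ (key A) B
      rw [app_sub', sub_eq_iff_eq_add] at e1 e2
      rw [e1, e2]; abel
    obtain ⟨l, hl, hl'⟩ := exists_norm_one_ne_bar K hq
    obtain ⟨A, hA0, hA1⟩ := exists_two K (α := (0 : F)) (β := 1) (by rw [nm_zero, nm_one, zero_add])
    obtain ⟨B, hB0, hB1⟩ := exists_two K (α := l) (β := (0 : F)) (by rw [hl, nm_zero, add_zero])
    have := (two_mul K A B).2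
    rw [hab A B, (two_mul K B A).2, hA0, hA1, hB0, hB1] at this
    simp at this
    exact hl' this
  obtain ⟨a, ha0, hav, haw⟩ := exists_orth_pair K (v := v) (w := w)
  have haa : H a a ≠ 0 := by
    intro haa
    obtain ⟨c, hc⟩ := iso_orth_dep K hvv haa (by rw [h_swap K a v, hav, map_zero]) hv0
    have h : c * H v w = 0 := by
      rw [hc] at haw
      change S.h (c • v) w = 0 at haw
      rwa [S.smul_left] at haw
    exact ha0 (by rw [hc, (mul_eq_zero.1 h).resolve_right hvw, zero_smul])
  obtain ⟨c, -, hc⟩ := exists_scaled K haa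
  exact ⟨c • a, hc, fun A => by rw [app_smul, hall a hav haw A]⟩

include K in
theorem fix_vec (hq : 4 ≤ q) {f : SU 2 F q →* SU 3 F q} (hf : Function.Injective f) :
    ∃ a, H a a = 1 ∧ ∀ A, app (f A) a = a := by
  by_cases h2 : (2 : F) = 0
  exacts [fix_vec_even K hq h2 hf, fix_vec_odd K hq h2 hf]

include K in
theorem range_eq_block {j : ℕ} (h : j + 2 ≤ 3) {f : SU 2 F q →* SU 3 F q} (hf : Function.Injective f)
    (hle : ∀ A, f A ∈ Blk j (j + 2)) : f.range = (emb K h : SU 2 F q →* SU 3 F q).range := by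
  refine Subgroup.eq_of_le_of_card_ge ?_ ?_
  · rintro _ ⟨A, rfl⟩; rw [range_emb_two K h]; exact hle A
  · rw [← Nat.card_congr (MonoidHom.ofInjective hf).toEquiv,
      ← Nat.card_congr (MonoidHom.ofInjective (emb_injective K h)).toEquiv]

include K in
/-- Only the axis is fixed by a torus generator. -/
theorem torus_fix (hq : 4 ≤ q) {T : SU 2 F q} (hT : T ^ (q + 1) = 1) (hT1 : T ≠ 1) {x : Fin 3 → F}
    (hx : app (emb K h01 T) x = x) : cd x 0 = 0 ∧ cd x 1 = 0 := by
  have e := emb_two K h01 T
  have h0 := (e.2.2 x).1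
  have h1 := (e.2.2 x).2
  rw [hx] at h0 h1
  set a := mat T 0 0 with ha
  set b := mat T 1 0 with hb
  have hn : a * K.bar a + b * K.bar b = 1 := (mat_two K T).2
  by_contra hc
  have hs : a + K.bar a = 2 := by
    have k0 : cd x 0 * (2 - (a + K.bar a)) = 0 := by
      linear_combination (1 - K.bar a) * h0 - K.bar b * h1 - cd x 0 * hn
    have k1 : cd x 1 * (2 - (a + K.bar a)) = 0 := by
      linear_combination (1 - a) * h1 + b * h0 - cd x 1 * hn
    by_contra hne
    have h' : 2 - (a + K.bar a) ≠ 0 := sub_ne_zero.2 (Ne.symm hne)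
    exact hc ⟨(mul_eq_zero.1 k0).resolve_right h', (mul_eq_zero.1 k1).resolve_right h'⟩
  have hpow : ∀ k : ℕ, mat (T ^ k) 0 0 = 1 + (k : F) * (a - 1) ∧ mat (T ^ k) 1 0 = (k : F) * b := by
    intro k
    induction k with
    | zero =>
      refine ⟨?_, ?_⟩ <;> simp [show mat (1 : SU 2 F q) = 1 from rfl]
    | succ k ih =>
      rw [pow_succ, (two_mul K _ _).1, (two_mul K _ _).2, ih.1, ih.2, ← ha, ← hb]
      simp only [map_mul, map_add, map_sub, map_one, map_natCast, Nat.cast_succ]
      constructor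
      · linear_combination (k : F) * a * hs - (k : F) * hn
      · linear_combination (k : F) * b * hs
  have hq0 : (q : F) = 0 := by
    cases nonempty_fintype F
    have h : ((q ^ 2 : ℕ) : F) = 0 := by
      rw [← K.card, Nat.card_eq_fintype_card]; exact Nat.cast_card_eq_zero F
    push_cast at h
    exact pow_eq_zero_iff two_ne_zero |>.1 h
  obtain ⟨p0, p1⟩ := hpow (q + 1)
  rw [hT] at p0 p1
  simp [hq0, show mat (1 : SU 2 F q) = 1 from rfl] at p0 p1
  refine hT1 (two_ext K ?_ ?_)
  · simp [show mat (1 : SU 2 F q) = 1 from rfl, ← ha]; linear_combination -p0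
  · simp [show mat (1 : SU 2 F q) = 1 from rfl, ← hb, p1]

include K in
/-- Two subgroups with commuting tori generating the group are the two coordinate blocks of a frame. -/
theorem exists_frame (hq : 4 ≤ q) {fA fB : SU 2 F q →* SU 3 F q} (hA : Function.Injective fA)
    (hB : Function.Injective fB) (hgen : fA.range ⊔ fB.range = ⊤) {tA tB : SU 2 F q}
    (hA1 : tA ≠ 1) (hAq : tA ^ (q + 1) = 1) (hB1 : tB ≠ 1) (hBq : tB ^ (q + 1) = 1)
    (hcomm : fA tA * fB tB = fB tB * fA tA) :
    ∃ c : SU 3 F q, (bA K).range.map (MulAut.conj c).toMonoidHom = fA.range ∧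
      (bB K : SU 2 F q →* SU 3 F q).range.map (MulAut.conj c).toMonoidHom = fB.range := by
  classical
  set S := Unitary.space (n := 3) K
  obtain ⟨a, ha, hafix⟩ := fix_vec K hq hA
  obtain ⟨g, hg⟩ := exists_to_two K hq ha
  let gA : SU 2 F q →* SU 3 F q := (MulAut.conj g⁻¹).toMonoidHom.comp fA
  let gB : SU 2 F q →* SU 3 F q := (MulAut.conj g⁻¹).toMonoidHom.comp fB
  have hgA : Function.Injective gA := (MulAut.conj g⁻¹).injective.comp hA
  have hgB : Function.Injective gB := (MulAut.conj g⁻¹).injective.comp hB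
  have hA2 : ∀ A, gA A ∈ Blk 0 2 := fun A => blk_two_app K (by
    show app (g⁻¹ * fA A * g⁻¹⁻¹) _ = _
    rw [inv_inv, app_mul, app_mul, hg, hafix, ← hg, app_inv])
  have hrA : gA.range = (bA K : SU 2 F q →* SU 3 F q).range := range_eq_block K h01 hgA hA2
  obtain ⟨b, hb, hbfix⟩ := fix_vec K hq hgB
  have htop : gA.range ⊔ gB.range = ⊤ := by
    have h := congrArg (Subgroup.map (MulAut.conj g⁻¹).toMonoidHom) hgen
    rwa [Subgroup.map_sup, ← MonoidHom.range_comp, ← MonoidHom.range_comp,
      Subgroup.map_top_of_surjective _ (MulAut.conj g⁻¹).surjective] at h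
  have hdep : ∀ x : Fin 3 → F, cd x 0 = 0 → cd x 1 = 0 → x = cd x 2 • bv 2 := fun x x0 x1 =>
    ext_cd fun i hi => by
      rw [cd_smul, cd_bv]
      rcases (show i = 0 ∨ i = 1 ∨ i = 2 by omega) with rfl | rfl | rfl <;> simp [x0, x1]
  have hbne : ¬ (cd b 0 = 0 ∧ cd b 1 = 0) := by
    rintro ⟨b0, b1⟩
    have hb2 : b = cd b 2 • bv 2 := hdep b b0 b1
    have hc : cd b 2 ≠ 0 := fun e => by
      rw [hb2, e, zero_smul] at hb
      exact zero_ne_one (α := F) ((S.zero_left _).symm.trans hb)
    have hle : gA.range ⊔ gB.range ≤ Blk 0 2 := by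
      refine sup_le (hrA ▸ (range_emb_two K h01).le) ?_
      rintro _ ⟨A, rfl⟩
      refine blk_two_app K ?_
      have h := hbfix A
      rw [hb2, app_smul] at h
      exact smul_right_injective _ hc h
    rw [htop] at hle
    obtain ⟨w, hw⟩ := exists_el K (n := 3) (j := 1) (by norm_num) (α := (0 : F)) (β := 1)
      (by rw [nm_zero, nm_one, zero_add])
    have h1 := hle (Subgroup.mem_top w) 2 (by omega)
    have h2 := (hw.2.2 (bv 2 : Fin 3 → F)).2
    rw [h1] at h2
    simp [cd_bv] at h2
  obtain ⟨TA, hTA⟩ : gA tA ∈ (bA K : SU 2 F q →* SU 3 F q).range := hrA ▸ ⟨tA, rfl⟩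
  obtain ⟨TB, hTB⟩ : ∃ T, gB tB = T := ⟨_, rfl⟩
  have hTA1 : TA ≠ 1 := fun e => hA1 (hgA (by rw [← hTA, e, map_one, map_one]))
  have hTAq : TA ^ (q + 1) = 1 := emb_injective K h01 (by rw [map_pow, hTA, ← map_pow, hAq, map_one, map_one])
  have hb2 : cd b 2 = 0 := by
    obtain ⟨g', hg'⟩ := exists_to_two K hq hb
    let hB' : SU 2 F q →* SU 3 F q := (MulAut.conj g'⁻¹).toMonoidHom.comp gB
    have hBfix : ∀ x, app (gB tB) x = x → ∃ c : F, x = c • b := by
      intro x hx
      have hm : ∀ A, hB' A ∈ Blk 0 2 := fun A => blk_two_app K (by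
        show app (g'⁻¹ * gB A * g'⁻¹⁻¹) _ = _
        rw [inv_inv, app_mul, app_mul, hg', hbfix, ← hg', app_inv])
      obtain ⟨T, hT⟩ : hB' tB ∈ (emb K h01 : SU 2 F q →* SU 3 F q).range := by
        rw [range_emb_two K h01]; exact hm tB
      have hinj : Function.Injective hB' := (MulAut.conj g'⁻¹).injective.comp hgB
      have hfx : app (emb K h01 T) (app g'⁻¹ x) = app g'⁻¹ x := by
        rw [hT]
        show app (g'⁻¹ * gB tB * g'⁻¹⁻¹) _ = _
        rw [inv_inv, app_mul, app_mul, ← app_mul g' g'⁻¹, mul_inv_cancel, app_one, hx]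
      have hc := torus_fix K hq (emb_injective K h01 (by rw [map_pow, hT, ← map_pow, hBq, map_one, map_one]))
        (fun e => hB1 (hinj (by rw [← hT, e, map_one, map_one]))) hfx
      refine ⟨cd (app g'⁻¹ x) 2, ?_⟩
      have h3 := congrArg (app g') (hdep _ hc.1 hc.2)
      rwa [← app_mul, mul_inv_cancel, app_one, app_smul, hg'] at h3
    have hcomm' : gA tA * gB tB = gB tB * gA tA := by
      show (MulAut.conj g⁻¹) (fA tA) * (MulAut.conj g⁻¹) (fB tB) = _
      rw [← map_mul, hcomm, map_mul]; rfl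
    obtain ⟨c, hc⟩ := hBfix (app (gA tA) b) (by rw [← app_mul, ← hcomm', app_mul, hbfix])
    have hc1 : c ≠ 1 := fun e => hbne (torus_fix K hq hTAq hTA1 (by rw [hTA, hc, e, one_smul]))
    have h1 : H b (bv 2) = c * H b (bv 2) := by
      conv_lhs => rw [← h_app (gA tA) b (bv 2), hA2 tA 2 (by omega), hc]
      exact S.smul_left _ _ _
    rw [h_bv K] at h1
    exact (mul_eq_zero.1 (show (c - 1) * cd b 2 = 0 by linear_combination -h1)).resolve_left
      (sub_ne_zero.2 hc1)
  have hn : nm K (cd b 0) + nm K (cd b 1) = 1 := by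
    have h := norm_range K 3 (k := 0) (v := b) (mem_W.2 fun i hi => absurd hi (Nat.not_lt_zero i))
      (fun i hi => by simp [cd, show ¬ i < 3 by omega])
    rw [hb, Finset.sum_range_succ, Finset.sum_range_succ, Finset.sum_range_one] at h
    simp only [zero_add, hb2, nm_zero, add_zero] at h
    exact h.symm
  obtain ⟨x, hx⟩ := exists_el K (n := 3) (j := 0) (by norm_num) hn
  have hxb : app x (bv 0 : Fin 3 → F) = b := by
    rw [hx.2.1]
    refine ext_cd fun i hi => ?_
    rcases (show i = 0 ∨ i = 1 ∨ i = 2 by omega) with rfl | rfl | rfl <;>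
      simp [cd_add, cd_smul, cd_bv, hb2]
  let kB : SU 2 F q →* SU 3 F q := (MulAut.conj x⁻¹).toMonoidHom.comp gB
  have hrB : kB.range = (bB K : SU 2 F q →* SU 3 F q).range :=
    range_eq_block K h12 ((MulAut.conj x⁻¹).injective.comp hgB) fun A i hi => by
      show app (x⁻¹ * gB A * x⁻¹⁻¹) _ = _
      rcases (show i = 0 ∨ 3 ≤ i by omega) with rfl | h
      · rw [inv_inv, app_mul, app_mul, hxb, hbfix, ← hxb, app_inv]
      · rw [bv, dif_neg (by omega), app_zero']
  refine ⟨g * x, ?_, ?_⟩
  · have hxA : (bA K : SU 2 F q →* SU 3 F q).range.map (MulAut.conj x).toMonoidHom = (bA K).range := by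
      rw [range_emb_two K h01]
      refine Subgroup.eq_of_le_of_card_ge ?_
        (by rw [Subgroup.card_map_of_injective (MulAut.conj x).injective])
      rintro _ ⟨y, hy, rfl⟩
      exact mul_mem (mul_mem hx.1 hy) (inv_mem hx.1)
    rw [map_mul, show ((MulAut.conj g * MulAut.conj x : MulAut (SU 3 F q))).toMonoidHom =
      (MulAut.conj g).toMonoidHom.comp (MulAut.conj x).toMonoidHom from rfl, ← Subgroup.map_map, hxA,
      ← hrA, ← MonoidHom.range_comp]
    congr 1
    ext1 A
    show g * (g⁻¹ * fA A * g⁻¹⁻¹) * g⁻¹ = fA A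
    group
  · rw [← hrB, ← MonoidHom.range_comp]
    congr 1
    ext1 A
    show g * x * (x⁻¹ * (g⁻¹ * fB A * g⁻¹⁻¹) * x⁻¹⁻¹) * (g * x)⁻¹ = fB A
    group

include K in
/-- A Phan pair is a standard pair. -/
theorem exists_pair_of_tori (hq : 4 ≤ q) {G : Type*} [Group G] {A B : Subgroup G}
    (eA : SU 2 F q ≃* A) (eB : SU 2 F q ≃* B) (φ : (A ⊔ B : Subgroup G) ≃* SU 3 F q)
    {DA DB : Subgroup G} (hDA : DA ≤ A ∧ IsCyclic DA ∧ Nat.card DA = q + 1)
    (hDB : DB ≤ B ∧ IsCyclic DB ∧ Nat.card DB = q + 1)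
    (hc : ∀ x ∈ DA, ∀ y ∈ DB, x * y = y * x) :
    ∃ ψ : SU 3 F q →* G, Pair K ψ A B (A ⊔ B) := by
  let iA : SU 2 F q →* (A ⊔ B : Subgroup G) := (Subgroup.inclusion le_sup_left).comp eA.toMonoidHom
  let iB : SU 2 F q →* (A ⊔ B : Subgroup G) := (Subgroup.inclusion le_sup_right).comp eB.toMonoidHom
  let fA := φ.toMonoidHom.comp iA
  let fB := φ.toMonoidHom.comp iB
  have hA : Function.Injective fA :=
    φ.injective.comp ((Subgroup.inclusion_injective le_sup_left).comp eA.injective)
  have hB : Function.Injective fB :=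
    φ.injective.comp ((Subgroup.inclusion_injective le_sup_right).comp eB.injective)
  have hAr : iA.range = A.subgroupOf (A ⊔ B) := by
    rw [MonoidHom.range_comp, MonoidHom.range_eq_top.2 eA.surjective, ← MonoidHom.range_eq_map,
      Subgroup.inclusion_range]
  have hBr : iB.range = B.subgroupOf (A ⊔ B) := by
    rw [MonoidHom.range_comp, MonoidHom.range_eq_top.2 eB.surjective, ← MonoidHom.range_eq_map,
      Subgroup.inclusion_range]
  have hgen : fA.range ⊔ fB.range = ⊤ := by
    rw [show fA.range = iA.range.map φ.toMonoidHom from MonoidHom.range_comp ..,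
      show fB.range = iB.range.map φ.toMonoidHom from MonoidHom.range_comp ..,
      ← Subgroup.map_sup, hAr, hBr,
      ← Subgroup.subgroupOf_sup le_sup_left le_sup_right, Subgroup.subgroupOf_self,
      Subgroup.map_top_of_surjective _ φ.surjective]
  have gen : ∀ {D C : Subgroup G} (hDC : D ≤ C ∧ IsCyclic D ∧ Nat.card D = q + 1)
      (e : SU 2 F q ≃* C), ∃ t : SU 2 F q, t ≠ 1 ∧ t ^ (q + 1) = 1 ∧ (e t : G) ∈ D := by
    intro D C hDC e
    haveI := hDC.2.1
    obtain ⟨z, hz⟩ := IsCyclic.exists_ofOrder_eq_natCard (α := D)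
    rw [hDC.2.2] at hz
    refine ⟨e.symm ⟨z, hDC.1 z.2⟩, fun h => ?_, ?_, by rw [e.apply_symm_apply]; exact z.2⟩
    · have h1 : (⟨z, hDC.1 z.2⟩ : C) = 1 := by
        rw [← e.apply_symm_apply ⟨z, hDC.1 z.2⟩, h, map_one]
      have h2 : z = 1 := Subtype.ext (congrArg Subtype.val h1 :)
      rw [h2, orderOf_one] at hz; omega
    · rw [← map_pow]
      have h1 : (⟨z, hDC.1 z.2⟩ : C) ^ (q + 1) = 1 := by
        refine Subtype.ext ?_
        have h0 := congrArg Subtype.val (pow_orderOf_eq_one z)
        rw [hz] at h0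
        simpa using h0
      rw [h1, map_one]
  obtain ⟨tA, a1, aq, am⟩ := gen hDA eA
  obtain ⟨tB, b1, bq, bm⟩ := gen hDB eB
  obtain ⟨c, hcA, hcB⟩ := exists_frame K hq hA hB hgen a1 aq b1 bq (by
    show φ (iA tA) * φ (iB tB) = φ (iB tB) * φ (iA tA)
    rw [← map_mul, ← map_mul]
    exact congrArg φ (Subtype.ext (hc _ am _ bm)))
  let f : SU 3 F q →* G :=
    (A ⊔ B).subtype.comp (φ.symm.toMonoidHom.comp (MulAut.conj c).toMonoidHom)
  have hf : Function.Injective f :=
    Subtype.val_injective.comp (φ.symm.injective.comp (MulAut.conj c).injective)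
  have hback : ∀ (i : SU 2 F q →* (A ⊔ B : Subgroup G)),
      ((φ.toMonoidHom.comp i).range.map φ.symm.toMonoidHom) = i.range := fun i => by
    rw [← MonoidHom.range_comp]; congr 1; ext1 X; simp
  refine ⟨f, ⟨hf.comp (emb_injective K h01), hf.comp (emb_injective K h12), ?_, ?_, ?_⟩⟩
  · rw [MonoidHom.range_comp, ← Subgroup.map_map, ← Subgroup.map_map, hcA, hback, hAr,
      Subgroup.map_subgroupOf_eq_of_le le_sup_left]
  · rw [MonoidHom.range_comp, ← Subgroup.map_map, ← Subgroup.map_map, hcB, hback, hBr,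
      Subgroup.map_subgroupOf_eq_of_le le_sup_right]
  · rw [MonoidHom.range_comp, MonoidHom.range_eq_top.2
      (φ.symm.surjective.comp (MulAut.conj c).surjective), ← MonoidHom.range_eq_map, Subgroup.range_subtype]

end CfsgLib.Classical.Phan
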