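import Cfsg.Agent.Lib.Classical.Phan.Sys

/-!
# The coset section of a system at one level
-/

set_option autoImplicit false
set_option linter.unusedSectionVars false

namespace CfsgLib.Classical.Phan

open Matrix Cfsg
open CfsgLib.Classical.Herm
open CfsgLib.ClassicalAut (Unitary.Conj Unitary.space Unitary.herm_apply)

variable {F : Type*} [Field F] [Finite F] {q : ℕ} (K : Unitary.Conj F q) {n : ℕ}

local notation "H" => hermForm n F q

variable {G : Type*} [Group G] (S : Sys (F := F) (q := q) G n) {k : ℕ}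

namespace Sys

/-- A vector of norm one, zero before `k`. -/
def Sph (_S : Sys (F := F) (q := q) G n) (k : ℕ) (v : Fin n → F) : Prop :=
  v ∈ W k ∧ hermForm n F q v v = 1

/-- ... whose coordinate at `k` does not have norm one. -/
def Val (k : ℕ) (v : Fin n → F) : Prop := S.Sph k v ∧ nm K (cd v k) ≠ 1

/-- The section of cosets over the vectors of the main chart. -/
noncomputable def C (k : ℕ) (v : Fin n → F) : G ⧸ S.L (k + 1) :=
  @dite _ (∃ g : G, (∃ l ∈ S.L (k + 1), ∃ u ∈ S.U k, g = l * u) ∧ app (S.π g) (bv k : Fin n → F) = v)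
    (Classical.propDecidable _) (fun h => (h.choose : G ⧸ S.L (k + 1))) (fun _ => ((1 : G) : G ⧸ S.L (k + 1)))

/-- An element commutes with the section at `v`. -/
def Edge (k : ℕ) (x : G) (v : Fin n → F) : Prop := x • S.C k v = S.C k (app (S.π x) v)

theorem app_L {x : G} (hx : x ∈ S.L k) {v : Fin n → F} {i : ℕ} (hi : i < k) (K : Unitary.Conj F q) :
    cd (app (S.π x) v) i = cd v i :=
  cd_app_of_fix K (S.mem_Fix hx i hi) v

include K in
theorem sph_app {x : G} (hx : x ∈ S.L k) {v : Fin n → F} (hv : S.Sph k v) :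
    S.Sph k (app (S.π x) v) :=
  ⟨Fix_app_W K (S.mem_Fix hx) hv.1, by rw [h_app]; exact hv.2⟩

theorem val_app {x : G} (hx : x ∈ S.L (k + 1)) {v : Fin n → F} (hv : S.Val K k v) :
    S.Val K k (app (S.π x) v) :=
  ⟨S.sph_app K (S.L_anti (Nat.le_succ k) hx) hv.1,
    by rw [S.app_L hx (Nat.lt_succ_self k) K]; exact hv.2⟩

theorem Edge.trans {S : Sys (F := F) (q := q) G n} {x y : G} {v : Fin n → F} (h1 : S.Edge k x v)
    (h2 : S.Edge k y (app (S.π x) v)) : S.Edge k (y * x) v := by
  unfold Edge at *; rw [mul_smul, h1, h2, map_mul, app_mul]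

theorem Edge.symm {S : Sys (F := F) (q := q) G n} {x : G} {v : Fin n → F} (h : S.Edge k x v) :
    S.Edge k x⁻¹ (app (S.π x) v) := by
  unfold Edge at *; rw [map_inv, app_inv, inv_smul_eq_iff, h]

/-! ### The chart -/

variable (hk : k + 3 < n) (hP : Set.InjOn S.π (↑(S.L (k + 1)) : Set G))

include K hk hP in
theorem C_eq {v : Fin n → F} (hne : nm K (cd v k) ≠ 1) {l u : G} (hl : l ∈ S.L (k + 1))
    (hu : u ∈ S.U k) (he : app (S.π (l * u)) (bv k : Fin n → F) = v) :
    S.C k v = ((l * u : G) : G ⧸ S.L (k + 1)) := by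
  have hex : ∃ g : G, (∃ l ∈ S.L (k + 1), ∃ u ∈ S.U k, g = l * u) ∧
      app (S.π g) (bv k : Fin n → F) = v := ⟨_, ⟨l, hl, u, hu, rfl⟩, he⟩
  rw [C, dif_pos hex, QuotientGroup.eq]
  obtain ⟨⟨l', hl', u', hu', e'⟩, he'⟩ := hex.choose_spec
  generalize hex.choose = g at e' he' ⊢
  subst e'
  set y := l'⁻¹ * l with hy
  have hyP : y ∈ S.L (k + 1) := mul_mem (inv_mem hl') hl
  obtain ⟨α, β, hue⟩ : ∃ α β, IsEl K (S.π u) k α β :=
    ⟨_, _, el_unique K (by omega) (S.mem_Blk (by omega) hu)⟩
  obtain ⟨α', β', hu'e⟩ : ∃ α β, IsEl K (S.π u') k α β :=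
    ⟨_, _, el_unique K (by omega) (S.mem_Blk (by omega) hu')⟩
  have hyk : app (S.π y) (bv k : Fin n → F) = bv k := S.mem_Fix hyP k (Nat.lt_succ_self k)
  have hye : app (S.π y) (app (S.π u) (bv k : Fin n → F)) = app (S.π u') (bv k) := by
    rw [hy, map_mul, app_mul, map_inv]
    rw [map_mul, app_mul] at he he'
    rw [he, ← he', app_inv]
  have hn1 := norm_col K (show k + 1 < n by omega) hue.1
  have hn2 := norm_col K (show k + 1 < n by omega) hu'e.1
  rw [el_app K hue, el_app K hu'e, app_add, app_smul, app_smul, hyk] at hye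
  rw [el_app K hue] at hn1
  rw [el_app K hu'e] at hn2
  simp only [cd_add, cd_smul, cd_bv, show k < n by omega, show k + 1 < n by omega, and_true,
    show ¬ k = k + 1 by omega, show ¬ k + 1 = k by omega, if_true, if_false, mul_one, mul_zero,
    add_zero, zero_add] at hn1 hn2
  have ha : α = cd v k := by
    rw [← he, map_mul, app_mul, el_app K hue, S.app_L hl (Nat.lt_succ_self k) K, cd_add, cd_smul,
      cd_smul, cd_bv, cd_bv, if_pos ⟨rfl, by omega⟩, if_neg (by omega), mul_one, mul_zero, add_zero]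
  have ha' : α' = α := by
    have h := congrArg (cd · k) hye
    simp only [cd_add, cd_smul, cd_bv, show k < n by omega, and_true, show ¬ k = k + 1 by omega,
      if_true, if_false, mul_one, mul_zero, add_zero] at h
    rw [S.app_L hyP (Nat.lt_succ_self k) K, cd_bv, if_neg (by omega), mul_zero, add_zero] at h
    exact h.symm
  subst ha'
  have hyb : β • app (S.π y) (bv (k + 1) : Fin n → F) = β' • bv (k + 1) := add_left_cancel hye
  have hβ : β ≠ 0 := fun e => hne (by rw [← ha, ← hn1, e, nm_zero, add_zero])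
  set ζ := β' / β with hζ
  have hnζ : nm K ζ = 1 := by
    have e : nm K β' = nm K β := by linear_combination hn2 - hn1
    have hb : nm K β ≠ 0 := fun h => hβ ((nm_eq_zero K).1 h)
    have : nm K ζ * nm K β = nm K β := by rw [← nm_mul, hζ, div_mul_cancel₀ _ hβ, e]
    exact mul_right_cancel₀ hb (by rw [this, one_mul])
  have hyb' : app (S.π y) (bv (k + 1) : Fin n → F) = ζ • bv (k + 1) := by
    have := congrArg (fun z => β⁻¹ • z) hyb
    simp only [smul_smul, inv_mul_cancel₀ hβ, one_smul] at this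
    rw [this, hζ, div_eq_inv_mul]
  obtain ⟨d, hd, hde⟩ := S.lift_el K (show k + 1 + 1 < n by omega) (α := ζ) (β := (0 : F))
    (by rw [hnζ, nm_zero, add_zero])
  set s := d⁻¹ * y with hs
  have hdP : d ∈ S.L (k + 1) := S.U_le_L le_rfl (by omega) hd
  have hsP : s ∈ S.L (k + 1) := mul_mem (inv_mem hdP) hyP
  have hsF : S.π s ∈ Fix (k + 2) := fun i hi => by
    by_cases e : i = k + 1
    · subst e
      have hdb : app (S.π d) (bv (k + 1) : Fin n → F) = ζ • bv (k + 1) := by
        rw [el_app K hde, zero_smul, add_zero]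
      rw [hs, map_mul, app_mul, hyb', ← hdb, map_inv, app_inv]
    · exact S.mem_Fix hsP i (by omega)
  obtain ⟨s', hs', hse⟩ := S.surj K (k + 2) _ hsF
  have hss : s ∈ S.L (k + 2) := by
    rw [← hP (SetLike.mem_coe.2 (S.L_anti (Nat.le_succ _) hs')) (SetLike.mem_coe.2 hsP) hse]; exact hs'
  have hcs : s * u = u * s := S.comm K (by omega) hu hss
  have hys : y = d * s := by rw [hs, mul_inv_cancel_left]
  have hz : u'⁻¹ * d * u ∈ S.U (k + 1) := by
    refine S.three_mem K (by omega) (mul_mem (mul_mem (inv_mem (Subgroup.mem_sup_left hu'))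
      (Subgroup.mem_sup_right hd)) (Subgroup.mem_sup_left hu)) ?_
    have hsk : app (S.π s) (bv k : Fin n → F) = bv k := S.mem_Fix hsP k (Nat.lt_succ_self k)
    conv_lhs => rw [← hsk, ← app_mul, ← map_mul, mul_assoc (u'⁻¹ * d), ← hcs]
    rw [show u'⁻¹ * d * (s * u) = u'⁻¹ * (y * u) by rw [hys]; group, map_mul, map_mul, app_mul,
      app_mul, el_app K hue, app_add, app_smul, app_smul, hyk, hyb, ← el_app K hu'e, map_inv, app_inv]
  have : (l' * u')⁻¹ * (l * u) = (u'⁻¹ * d * u) * s := by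
    rw [show (l' * u')⁻¹ * (l * u) = u'⁻¹ * y * u by rw [hy]; group, hys,
      show u'⁻¹ * (d * s) * u = u'⁻¹ * d * (s * u) by group, hcs]
    group
  rw [this]
  exact mul_mem (S.U_le_L le_rfl (by omega) hz) hsP

include K hk hP in
theorem C_rep {v : Fin n → F} (hv : S.Val K k v) :
    ∃ l ∈ S.L (k + 1), ∃ u ∈ S.U k, app (S.π (l * u)) (bv k : Fin n → F) = v ∧
      S.C k v = ((l * u : G) : G ⧸ S.L (k + 1)) := by
  obtain ⟨l, hl, u, hu, h⟩ := S.exists_rep K (by omega) (S.surj K (k + 1)) hv.1.1 hv.1.2 hv.2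
  exact ⟨l, hl, u, hu, h, S.C_eq K hk hP hv.2 hl hu h⟩

include K hk hP in
theorem edge_P {x : G} (hx : x ∈ S.L (k + 1)) {v : Fin n → F} (hv : S.Val K k v) :
    S.Edge k x v := by
  obtain ⟨l, hl, u, hu, h, e⟩ := S.C_rep K hk hP hv
  unfold Edge
  rw [e, S.C_eq K hk hP (S.val_app K hx hv).2 (mul_mem hx hl) hu
    (by rw [mul_assoc, map_mul, app_mul, h]), MulAction.Quotient.smul_coe, smul_eq_mul, mul_assoc]

include K hk hP in
/-- Transport along the elements of the far subgroup. -/
theorem edge_of_far {x y : G} (hx : x ∈ S.U k) (hy : y ∈ S.L (k + 2)) {v : Fin n → F}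
    (hv : S.Val K k v) (hxv : S.Val K k (app (S.π x) v))
    (h : S.Val K k (app (S.π x) (app (S.π y) v)) → S.Edge k x (app (S.π y) v)) : S.Edge k x v := by
  have hyP : y ∈ S.L (k + 1) := S.L_anti (Nat.le_succ _) hy
  have hyx : y * x = x * y := S.comm K (by omega) hx hy
  have e1 : S.Edge k y v := S.edge_P K hk hP hyP hv
  have e0 : app (S.π x) (app (S.π y) v) = app (S.π y) (app (S.π x) v) := by
    rw [← app_mul, ← app_mul, ← map_mul, ← map_mul, hyx]
  have e2 := e1.trans (h (e0 ▸ S.val_app K hyP hxv))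
  have e3 := (S.edge_P K hk hP hyP hxv).symm
  rw [← e0, ← app_mul, ← map_mul] at e3
  have e4 := e2.trans e3
  rwa [← mul_assoc, mul_assoc, ← hyx, inv_mul_cancel_left] at e4

include K hk hP in
theorem edge_triple {x : G} (hx : x ∈ S.U k) {v : Fin n → F} (hv : S.Val K k v)
    (hxv : S.Val K k (app (S.π x) v)) (hz : ∀ i, k + 3 ≤ i → cd v i = 0) : S.Edge k x v := by
  have key : ∀ w, S.Val K k w → (∀ i, k + 3 ≤ i → cd w i = 0) →
      ∃ g ∈ S.U k ⊔ S.U (k + 1), app (S.π g) (bv k : Fin n → F) = w ∧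
        S.C k w = (g : G ⧸ S.L (k + 1)) := by
    intro w hw hwz
    have hwn := norm_range K 3 hw.1.1 hwz
    rw [hw.1.2, Finset.sum_range_succ, Finset.sum_range_succ, Finset.sum_range_one, add_zero] at hwn
    obtain ⟨c, hc⟩ := exists_nm K (bar_one_sub K (bar_nm K (cd w k)))
    have hc0 : nm K c ≠ 0 := by rw [hc]; exact sub_ne_zero.2 (Ne.symm hw.2)
    obtain ⟨α, β, h1, h2, h3⟩ := exists_el_move K (b := c) (c := 0) (b' := cd w (k + 1))
      (c' := cd w (k + 2)) (by rwa [nm_zero, add_zero])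
      (by rw [nm_zero, add_zero, hc]; linear_combination -hwn)
    obtain ⟨l, hl, hle⟩ := S.lift_el K (show k + 1 + 1 < n by omega) h1
    obtain ⟨u, hu, hue⟩ := S.lift_el K (show k + 1 < n by omega) (α := cd w k) (β := c)
      (by rw [hc]; ring)
    have he : app (S.π (l * u)) (bv k : Fin n → F) = w := by
      rw [map_mul, app_mul, el_app K hue]
      refine el_move K hle (w := w) (b := cd w (k + 1)) (b' := cd w (k + 2)) ?_ ?_ rfl rfl ?_
      · simpa [cd_add, cd_smul, cd_bv, show k + 1 < n by omega, show k + 1 + 1 < n by omega,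
          show k < n by omega, show ¬ k + 1 + 1 = k by omega] using h2
      · simpa [cd_add, cd_smul, cd_bv, show k + 1 < n by omega, show k + 1 + 1 < n by omega,
          show k < n by omega, show ¬ k + 1 + 1 = k by omega] using h3
      · intro i hi e1 e2
        simp only [cd_add, cd_smul, cd_bv, hi, and_true, e1, if_false, mul_zero, add_zero]
        by_cases e : i = k
        · subst e; simp
        rw [if_neg e, mul_zero]
        by_cases e' : i < k
        · exact mem_W.1 hw.1.1 i e'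
        · exact hwz i (by omega)
    exact ⟨l * u, mul_mem (Subgroup.mem_sup_right hl) (Subgroup.mem_sup_left hu), he,
      S.C_eq K hk hP hw.2 (S.U_le_L le_rfl (by omega) hl) hu he⟩
  obtain ⟨g, hg, hge, e⟩ := key v hv hz
  obtain ⟨g', hg', hge', e'⟩ := key _ hxv fun i hi => by
    rw [Blk_cd K (S.mem_Blk (by omega) hx) v (by omega)]; exact hz i hi
  unfold Edge
  rw [e, e', MulAction.Quotient.smul_coe, smul_eq_mul, eq_comm, QuotientGroup.eq]
  refine S.U_le_L (k := k + 1) le_rfl (by omega) (S.three_mem K (by omega)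
    (mul_mem (inv_mem hg') (mul_mem (Subgroup.mem_sup_left hx) hg)) ?_)
  rw [map_mul, map_mul, app_mul, app_mul, hge, ← hge', map_inv, app_inv]

end Sys

end CfsgLib.Classical.Phan
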